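import Cfsg.Agent.Lib.Crit8.Prod.Odd

/-!
# The single fixed point criterion: passage to the quotient by the core of `H`
-/

set_option autoImplicit false
set_option linter.style.haveILetI false

namespace Cfsg.Agent.Lib.Crit8

open MulAction Subgroup Cfsg.Agent.Lib.Involutions.Basic

variable {G : Type*} [Group G] {H : Subgroup G} {D : Set G}

/-- The image of `H` modulo its core. -/
abbrev hbar (H : Subgroup G) : Subgroup (G ⧸ H.normalCore) :=
  H.map (QuotientGroup.mk' H.normalCore)

/-- The image of the members modulo the core of `H`. -/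
abbrev dbar (H : Subgroup G) (D : Set G) : Set (G ⧸ H.normalCore) :=
  QuotientGroup.mk' H.normalCore '' D

theorem mem_hbar {g : G} : QuotientGroup.mk' H.normalCore g ∈ hbar H ↔ g ∈ H := by
  constructor
  · rintro ⟨h, hh, e⟩
    have h1 : h⁻¹ * g ∈ H.normalCore := QuotientGroup.eq.1 e
    simpa using mul_mem hh (H.normalCore_le h1)
  · exact fun h => mem_map_of_mem _ h

/-- The image of `H` is core free. -/
theorem normalCore_hbar : (hbar H).normalCore = ⊥ := by
  rw [eq_bot_iff]
  intro x hx
  induction x using QuotientGroup.induction_on with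
  | H g =>
    refine mem_bot.2 ((QuotientGroup.eq_one_iff g).2 fun b => ?_)
    have h1 := hx (QuotientGroup.mk' H.normalCore b)
    refine mem_hbar.1 ?_
    simpa using h1

theorem not_mem_core (hS : Crit59.Setting H D) {d : G} (hd : d ∈ D) : d ∉ H.normalCore := by
  intro hN
  obtain ⟨g, -, hg⟩ := SetLike.exists_of_lt (lt_top_iff_ne_top.2 hS.ne_top)
  exact hg (hS.fix d hd (H.normalCore_le hN) g
    (H.normalCore_le (H.normalCore_normal.conj_mem d hN g)))

/-- Members at the base point with the same image form a set of odd size. -/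
theorem odd_fibre [Finite G] (hS : Crit59.Setting H D) (hP : Crit59.ProdHyp H D) {d : G}
    (hd : d ∈ D) (hdH : d ∈ H) :
    Odd (Nat.card {e : G // e ∈ D ∧ d * e ∈ H.normalCore}) := by
  have hdd := invol_mul_self (hS.invol d hd)
  refine odd_card_of_unique_fix
    (fun e => ⟨d * e.1 * d⁻¹, hS.conj _ e.2.1 d, ?_⟩) (fun e => Subtype.ext ?_)
    (a := ⟨d, hd, by rw [hdd]; exact one_mem _⟩) (Subtype.ext (by simp)) fun e he => ?_
  · have := H.normalCore_normal.conj_mem _ e.2.2 d
    simpa [mul_assoc] using this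
  · show d * (d * e.1 * d⁻¹) * d⁻¹ = e.1
    rw [Crit59.conj_conj, hdd]; simp
  · refine Subtype.ext ?_
    by_contra hne
    have hc : d * e.1 = e.1 * d := mul_inv_eq_iff_eq_mul.1 (congrArg Subtype.val he)
    have hee := invol_mul_self (hS.invol _ e.2.1)
    have h2 : orderOf (d * e.1) = 2 := by
      refine invol_iff.2 ⟨?_, fun h1 => hne ?_⟩
      · calc d * e.1 * (d * e.1) = d * (e.1 * d) * e.1 := by group
          _ = d * (d * e.1) * e.1 := by rw [hc]
          _ = (d * d) * (e.1 * e.1) := by group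
          _ = 1 := by rw [hdd, hee, one_mul]
      · exact ((eq_inv_of_mul_eq_one_left h1).trans (invol_inv (hS.invol _ e.2.1))).symm
    have := odd_mul_of_mem_core hS hP hd hdH e.2.1 e.2.2
    rw [h2] at this
    exact Nat.not_odd_iff_even.2 even_two this

theorem mem_fibre_iff (hS : Crit59.Setting H D) {d e : G} (hd : d ∈ D) :
    QuotientGroup.mk' H.normalCore d = QuotientGroup.mk' H.normalCore e ↔ d * e ∈ H.normalCore := by
  show (d : G ⧸ H.normalCore) = e ↔ _
  rw [QuotientGroup.eq, invol_inv (hS.invol d hd)]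

/-- The setting passes to the quotient by the core. -/
theorem setting_quot [Finite G] (hS : Crit59.Setting H D) (hP : Crit59.ProdHyp H D) :
    Crit59.Setting (hbar H) (dbar H D) := by
  refine ⟨fun htop => hS.ne_top (eq_top_iff.2 fun g _ => mem_hbar.1 (htop ▸ mem_top _)),
    ?_, ?_, ?_, ?_, ?_⟩
  · rintro _ ⟨d, hd, rfl⟩
    refine invol_iff.2 ⟨by rw [← map_mul, invol_mul_self (hS.invol d hd), map_one], fun h => ?_⟩
    exact not_mem_core hS hd ((QuotientGroup.eq_one_iff d).1 h)
  · rintro _ ⟨d, hd, rfl⟩ x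
    induction x using QuotientGroup.induction_on with
    | H g => exact ⟨g * d * g⁻¹, hS.conj d hd g, by simp⟩
  · rintro _ ⟨d, hd, rfl⟩
    obtain ⟨g, hg⟩ := hS.meets d hd
    exact ⟨QuotientGroup.mk' _ g, by rw [← map_inv, ← map_mul, ← map_mul]; exact mem_hbar.2 hg⟩
  · rintro _ ⟨d, hd, rfl⟩ hdH x hx
    induction x using QuotientGroup.induction_on with
    | H g =>
      refine mem_hbar.2 (hS.fix d hd (mem_hbar.1 hdH) g (mem_hbar.1 ?_))
      simpa using hx
  · classical
    set A := {d : G // d ∈ D ∧ d ∈ H}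
    haveI := Fintype.ofFinite A
    haveI := Fintype.ofFinite {x // x ∈ dbar H D ∧ x ∈ hbar H}
    let f : A → {x // x ∈ dbar H D ∧ x ∈ hbar H} := fun d =>
      ⟨QuotientGroup.mk' _ d.1, ⟨d.1, d.2.1, rfl⟩, mem_hbar.2 d.2.2⟩
    have hfib : ∀ y, Odd (Finset.univ.filter fun d => f d = y).card := by
      rintro ⟨_, ⟨d, hd, rfl⟩, hdH⟩
      have h1 : Odd (Nat.card {e : G // e ∈ D ∧ d * e ∈ H.normalCore}) :=
        odd_fibre hS hP hd (mem_hbar.1 hdH)
      rwa [Nat.card_congr (β := {a : A // f a = ⟨_, ⟨d, hd, rfl⟩, hdH⟩})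
        ⟨fun e => ⟨⟨e.1, e.2.1, ?_⟩, Subtype.ext ((mem_fibre_iff hS hd).2 e.2.2).symm⟩,
          fun a => ⟨a.1.1, a.1.2.1,
            (mem_fibre_iff hS hd).1 (congrArg Subtype.val a.2).symm⟩,
          fun _ => rfl, fun _ => rfl⟩, Nat.card_eq_fintype_card, Fintype.card_subtype] at h1
      exact mem_hbar.1 (by rw [← (mem_fibre_iff hS hd).2 e.2.2]; exact hdH)
    have hA : ((Fintype.card A : ℕ) : ZMod 2) =
        ((Fintype.card {x // x ∈ dbar H D ∧ x ∈ hbar H} : ℕ) : ZMod 2) := by
      rw [← Finset.card_univ, Finset.card_eq_sum_card_fiberwise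
        (f := f) (t := Finset.univ) (fun _ _ => Finset.mem_univ _), Nat.cast_sum,
        Finset.sum_congr rfl fun y _ => (ZMod.natCast_eq_one_iff_odd).2 (hfib y),
        Finset.sum_const, nsmul_one, Finset.card_univ]
    rw [Nat.card_eq_fintype_card, ← ZMod.natCast_eq_one_iff_odd, ← hA,
      ZMod.natCast_eq_one_iff_odd, ← Nat.card_eq_fintype_card]
    exact hS.odd

/-- The product hypothesis passes to the quotient by the core. -/
theorem prodHyp_quot [Finite G] (hS : Crit59.Setting H D) (hP : Crit59.ProdHyp H D) :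
    Crit59.ProdHyp (hbar H) (dbar H D) := by
  rintro _ _ ⟨d, hd, rfl⟩ hdH ⟨e, he, rfl⟩ heH hc hne x hx
  have hdH' := mem_hbar.1 hdH
  have heH' := mem_hbar.1 heH
  have hdd := invol_mul_self (hS.invol d hd)
  have hee := invol_mul_self (hS.invol e he)
  set r := d * e with hr
  have hrN : r ^ 2 ∈ H.normalCore := by
    refine (QuotientGroup.eq_one_iff _).1 ?_
    show QuotientGroup.mk' H.normalCore (r ^ 2) = 1
    rw [hr, map_pow, map_mul, hc.mul_pow, ← map_pow, ← map_pow, pow_two, pow_two, hdd, hee,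
      map_one, one_mul]
  have hnotN : r ∉ H.normalCore := fun h => hne ((mem_fibre_iff hS hd).2 h)
  have hev : Even (orderOf r) := by
    by_contra h
    obtain ⟨n, hn⟩ := Nat.not_even_iff_odd.1 h
    refine hnotN ?_
    have : r = (r ^ 2) ^ (n + 1) := by
      rw [← pow_mul, show 2 * (n + 1) = orderOf r + 1 by omega, pow_succ, pow_orderOf_eq_one,
        one_mul]
    rw [this]
    exact pow_mem hrN _
  obtain ⟨hw, hwd, -⟩ := central_invol (hS.invol d hd) (hS.invol e he) hev
  have he1 := exists_mul_invol (fun g x hx => hS.conj x hx g) hd he (hS.invol d hd) (hS.invol e he) hev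
  set w := r ^ (orderOf r / 2) with hwdef
  have hwH : w ∈ H := pow_mem (mul_mem hdH' heH') _
  have hdw : d * (d * w) = w := by rw [← mul_assoc, hdd, one_mul]
  have hwN : w ∉ H.normalCore := fun h => by
    have := odd_mul_of_mem_core hS hP hd hdH' he1 (by rwa [hdw])
    rw [hdw, hw] at this
    exact Nat.not_odd_iff_even.2 even_two this
  obtain ⟨j, hj⟩ : Odd (orderOf r / 2) := by
    by_contra h
    obtain ⟨i, hi⟩ := Nat.not_odd_iff_even.1 h
    exact hwN (by rw [hwdef, hi, ← two_mul, pow_mul]; exact pow_mem hrN _)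
  have hwr : QuotientGroup.mk' H.normalCore w = QuotientGroup.mk' H.normalCore r := by
    rw [hwdef, hj, map_pow, pow_succ, pow_mul, ← map_pow,
      show QuotientGroup.mk' H.normalCore (r ^ 2) = 1 from (QuotientGroup.eq_one_iff _).2 hrN,
      one_pow, one_mul]
  have hC : centralizer ({w} : Set G) ≤ H := by
    have h1 := hP d _ hd hdH' he1 (mul_mem hdH' hwH) ((Commute.refl d).mul_right hwd.symm)
      (fun h => invol_ne_one hw (by simpa using h.symm))
    rwa [hdw] at h1
  induction x using QuotientGroup.induction_on with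
  | H g =>
    refine mem_hbar.2 (mem_of_centralizer_le hS hw hC (mem_hbar.1 ?_))
    have hx' := mem_centralizer_singleton_iff.1 hx
    rw [← map_mul, ← hr, ← hwr] at hx'
    rw [map_mul, map_mul, map_inv]
    have : QuotientGroup.mk' H.normalCore g * QuotientGroup.mk' H.normalCore w *
        (QuotientGroup.mk' H.normalCore g)⁻¹ = QuotientGroup.mk' H.normalCore w :=
      mul_inv_eq_iff_eq_mul.2 hx'
    rw [this]
    exact mem_hbar.2 hwH

end Cfsg.Agent.Lib.Crit8
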