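import Cfsg.Agent.Lib.Crit8.Prod.Kernel
import Cfsg.Agent.Lib.Crit59.Assembly

/-!
# The single fixed point criterion: the core is odd

Let `G = ⟨D⟩` with `D` closed under products of commuting members and `H/N` strongly embedded,
`N` the core of `H`.  A member at the base point is isolated in `N⟨d⟩`, so Z* makes `N/O(N)`
central; if `N` were of even order a normal subgroup `M` of index two in `N` would give a counter
example to `CoreInvol.false` in `G/M`.
-/

set_option autoImplicit false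
set_option linter.style.haveILetI false

namespace Cfsg.Agent.Lib.Crit8

open MulAction Subgroup Cfsg.Agent.Lib.Involutions.Basic

universe u

variable {G : Type u} [Group G] [Finite G] {H : Subgroup G} {D : Set G}

/-- A member at the base point centralises the core modulo its odd core. -/
theorem member_comm_core (hS : Crit59.Setting H D) (hC : Crit59.ProdClosed H D) {d y : G}
    (hd : d ∈ D) (hdH : d ∈ H) (hy : y ∈ H.normalCore) :
    d * y * d⁻¹ * y⁻¹ ∈ (Cfsg.oddCore H.normalCore).map H.normalCore.subtype := by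
  set N := H.normalCore with hN
  set π := QuotientGroup.mk' N with hπ
  set R := (zpowers (π d)).comap π with hR
  have hdR : d ∈ R := mem_zpowers (π d)
  have hNR : N ≤ R := fun x hx => by
    show π x ∈ zpowers (π d)
    rw [show π x = 1 from (QuotientGroup.eq_one_iff x).2 hx]
    exact one_mem _
  have hI : Cfsg.IsIsolatedInvolution (⟨d, hdR⟩ : R) := by
    refine ⟨by rw [Subgroup.orderOf_mk]; exact hS.invol d hd, fun g hg => Subtype.ext ?_⟩
    set e := (g : G) * d * (g : G)⁻¹ with he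
    have hc : Commute d e := congrArg Subtype.val hg.eq
    obtain ⟨i, hi⟩ := mem_zpowers_iff.1 g.2
    have hπe : π e = π d := by
      rw [he, map_mul, map_mul, map_inv, ← hi, (Commute.self_zpow (π d) i).eq.symm,
        mul_inv_cancel_right]
    have hde : d * e ∈ N := (mem_fibre_iff hS hd).1 hπe.symm
    have heD : e ∈ D := hS.conj d hd g
    have hodd := odd_mul_of_mem_core hS (prodHyp_of_closed hS hC) hd hdH heD hde
    have hsq : (d * e) ^ 2 = 1 := by
      rw [hc.mul_pow, pow_two, pow_two, invol_mul_self (hS.invol d hd),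
        invol_mul_self (hS.invol e heD), one_mul]
    have h1 : d * e = 1 := by
      obtain ⟨j, hj⟩ := hodd
      have h2 := pow_orderOf_eq_one (d * e)
      rwa [hj, pow_succ, pow_mul, hsq, one_pow, one_mul] at h2
    show e = d
    exact ((eq_inv_of_mul_eq_one_left h1).trans (invol_inv (hS.invol e heD))).symm
  have hmem := IsolatedInvolution.InvariantSylow.commutator_mem hI (⟨y, hNR hy⟩ : R)
  haveI : (Cfsg.oddCore R).Normal := by unfold Cfsg.oddCore; infer_instance
  set OR := (Cfsg.oddCore R).map R.subtype with hOR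
  have hodd : Odd (Nat.card OR) := by
    rw [hOR, card_subtype]
    exact Cores.oddCore_odd
  have hle : OR ≤ N := by
    rintro _ ⟨x, hx, rfl⟩
    obtain ⟨i, hi⟩ := mem_zpowers_iff.1 x.2
    refine (QuotientGroup.eq_one_iff _).1 ?_
    show π (x : G) = 1
    have hdd : π d * π d = 1 := by rw [← map_mul, invol_mul_self (hS.invol d hd), map_one]
    have hsq : π (x : G) * π (x : G) = 1 := by
      rw [← hi, ← zpow_add, ← two_mul, zpow_mul, zpow_two, hdd, one_zpow]
    have h1 : (x : G) ^ Nat.card OR = 1 := by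
      have hxO : (x : G) ∈ OR := ⟨x, hx, rfl⟩
      exact orderOf_dvd_iff_pow_eq_one.1 (Subgroup.orderOf_dvd_natCard OR hxO)
    have h2 := congrArg π h1
    obtain ⟨j, hj⟩ := hodd
    rwa [map_pow, map_one, hj, pow_succ, pow_mul, pow_two, hsq, one_pow, one_mul] at h2
  haveI : (OR.subgroupOf N).Normal := by
    refine ⟨fun x hx g => ?_⟩
    obtain ⟨a, ha, hax⟩ := hx
    refine ⟨⟨g, hNR g.2⟩ * a * (⟨g, hNR g.2⟩ : R)⁻¹, Normal.conj_mem inferInstance a ha _, ?_⟩
    show (g : G) * (a : G) * (g : G)⁻¹ = ((g * x * g⁻¹ : N) : G)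
    rw [Subgroup.coe_mul, Subgroup.coe_mul, Subgroup.coe_inv]
    exact congrArg (fun w => (g : G) * w * (g : G)⁻¹) hax
  have hle2 : OR.subgroupOf N ≤ Cfsg.oddCore N := Cores.le_oddCore
    (by rw [Nat.card_congr (subgroupOfEquivOfLe hle).toEquiv]; exact hodd)
  have hc : d * y * d⁻¹ * y⁻¹ ∈ OR := ⟨_, hmem, rfl⟩
  exact ⟨⟨_, hle hc⟩, hle2 hc, rfl⟩

/-- The odd core of the core, inside the group, is normal. -/
theorem normal_oddCore_core : ((Cfsg.oddCore H.normalCore).map H.normalCore.subtype).Normal := by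
  haveI : (Cfsg.oddCore H.normalCore).Characteristic := by unfold Cfsg.oddCore; infer_instance
  exact Cores.normal_map_subtype H.normalCore _

/-- The core is central modulo its odd core. -/
theorem comm_core (hS : Crit59.Setting H D) (hC : Crit59.ProdClosed H D) (htop : closure D = ⊤)
    (g : G) {y : G} (hy : y ∈ H.normalCore) :
    g * y * g⁻¹ * y⁻¹ ∈ (Cfsg.oddCore H.normalCore).map H.normalCore.subtype := by
  set O := (Cfsg.oddCore H.normalCore).map H.normalCore.subtype with hO
  haveI : O.Normal := normal_oddCore_core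
  set φ := QuotientGroup.mk' O with hφ
  have hiff : ∀ a b : G, a * b * a⁻¹ * b⁻¹ ∈ O ↔ φ b * φ a = φ a * φ b := by
    intro a b
    rw [← QuotientGroup.eq_one_iff, ← QuotientGroup.mk'_apply O, ← hφ, map_mul, map_mul, map_mul,
      map_inv, map_inv, mul_inv_eq_one, mul_inv_eq_iff_eq_mul]
    exact ⟨Eq.symm, Eq.symm⟩
  have htop' : (⊤ : Subgroup G) ≤ (centralizer (φ '' (H.normalCore : Set G))).comap φ := by
    rw [← htop, closure_le]
    intro d hd
    refine mem_centralizer_iff.2 ?_
    rintro _ ⟨x, hx, rfl⟩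
    refine (hiff d x).1 ?_
    obtain ⟨k, hk⟩ := hS.meets d hd
    have h1 := member_comm_core hS hC (hS.conj d hd k) hk
      (H.normalCore_normal.conj_mem x hx k)
    have h2 := Normal.conj_mem (inferInstance : O.Normal) _ h1 k⁻¹
    convert h2 using 1
    group
  exact (hiff g y).2 (mem_centralizer_iff.1 (htop' (mem_top g)) _ ⟨y, hy, rfl⟩)

/-- A normal subgroup with index two in a core of even order. -/
theorem exists_half (hS : Crit59.Setting H D) (hC : Crit59.ProdClosed H D) (htop : closure D = ⊤)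
    (hev : Even (Nat.card H.normalCore)) :
    ∃ (M : Subgroup G) (z : G), M.Normal ∧ M ≤ H.normalCore ∧ z ∈ H.normalCore ∧ z ∉ M ∧
      (∀ y ∈ H.normalCore, y ∉ M → y * z ∈ M) ∧
      ∀ y ∈ H.normalCore, y * y ∈ M := by
  classical
  set N := H.normalCore with hN
  set O := (Cfsg.oddCore N).map N.subtype with hO
  haveI : O.Normal := normal_oddCore_core
  set φ := QuotientGroup.mk' O with hφ
  have hcen : ∀ (g : G), ∀ y ∈ N, φ (g * y * g⁻¹) = φ y := by
    intro g y hy
    have h1 : φ (g * y * g⁻¹ * y⁻¹) = 1 :=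
      (QuotientGroup.eq_one_iff _).2 (comm_core hS hC htop g hy)
    rw [map_mul, map_inv] at h1
    exact mul_inv_eq_one.1 h1
  set A := N.map φ with hA
  letI : CommGroup A := { (inferInstance : Group A) with
    mul_comm := by
      rintro ⟨_, a, ha, rfl⟩ ⟨_, b, hb, rfl⟩
      refine Subtype.ext ?_
      show φ a * φ b = φ b * φ a
      have := hcen a b hb
      rwa [map_mul, map_mul, map_inv, mul_inv_eq_iff_eq_mul] at this }
  obtain ⟨t, ht⟩ := exists_invol (G := N) hev
  have htO : (t : G) ∉ O := fun h => by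
    have hodd : Odd (Nat.card O) := by rw [hO, card_subtype]; exact Cores.oddCore_odd
    exact (odd_card_iff_no_invol O).1 hodd (t : G) h (by rw [Subgroup.orderOf_coe, ht])
  set sq : A →* A := powMonoidHom 2 with hsq
  have hne : sq.range ≠ ⊤ := by
    intro h
    have hinj : Function.Injective sq :=
      Finite.injective_iff_surjective.2 (MonoidHom.range_eq_top.1 h)
    have h1 : (⟨φ t, mem_map_of_mem _ t.2⟩ : A) = 1 := by
      refine hinj ?_
      rw [map_one]
      refine Subtype.ext ?_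
      show φ t ^ 2 = 1
      rw [← map_pow, pow_two, show (t : G) * t = 1 from congrArg Subtype.val (invol_mul_self ht),
        map_one]
    exact htO ((QuotientGroup.eq_one_iff _).1 (congrArg Subtype.val h1))
  obtain h | ⟨K, hK, hle⟩ := eq_top_or_exists_le_coatom sq.range
  · exact absurd h hne
  have hsqK : ∀ x : A, x * x ∈ K := fun x => hle ⟨x, by rw [hsq]; exact pow_two x⟩
  obtain ⟨a, -, ha⟩ := SetLike.exists_of_lt hK.lt_top
  obtain ⟨z, hz, hza⟩ := a.2
  refine ⟨(K.map A.subtype).comap φ, z, ?_, ?_, hz, ?_, ?_, ?_⟩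
  · refine ⟨fun y hy g => ?_⟩
    obtain ⟨k, hk, hky⟩ := hy
    obtain ⟨y₀, hy₀, hyk⟩ := k.2
    have hyN : y ∈ N := by
      have h1 : y₀⁻¹ * y ∈ O := QuotientGroup.eq.1 (hyk.trans hky)
      have h2 : O ≤ N := by rw [hO]; exact map_subtype_le _
      simpa using mul_mem hy₀ (h2 h1)
    show φ (g * y * g⁻¹) ∈ K.map A.subtype
    rw [hcen g y hyN]
    exact ⟨k, hk, hky⟩
  · intro y hy
    obtain ⟨k, -, hky⟩ := hy
    obtain ⟨y₀, hy₀, hyk⟩ := k.2
    have h1 : y₀⁻¹ * y ∈ O := QuotientGroup.eq.1 (hyk.trans hky)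
    have h2 : O ≤ N := by rw [hO]; exact map_subtype_le _
    simpa using mul_mem hy₀ (h2 h1)
  · rintro ⟨k, hk, hkz⟩
    exact ha ((Subtype.ext (hkz.trans hza) : k = a) ▸ hk)
  · intro y hy hyM
    set b : A := ⟨φ y, mem_map_of_mem _ hy⟩ with hb
    have hbK : b ∉ K := fun h => hyM ⟨b, h, rfl⟩
    have hsup : K ⊔ zpowers b = ⊤ :=
      hK.2 _ (left_lt_sup.2 fun h => hbK (h (mem_zpowers b)))
    obtain ⟨k, hk, w, hw, hkw⟩ := mem_sup.1 (hsup ▸ mem_top a : a ∈ K ⊔ zpowers b)
    obtain ⟨i, rfl⟩ := mem_zpowers_iff.1 hw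
    refine ⟨b * a, ?_, ?_⟩
    · rw [← hkw]
      rcases Int.even_or_odd i with ⟨j, rfl⟩ | ⟨j, rfl⟩
      · refine absurd ?_ ha
        rw [← hkw, ← two_mul, zpow_mul, zpow_two]
        exact mul_mem hk (zpow_mem (hsqK b) j)
      · rw [mul_comm b (k * _), mul_assoc, zpow_add, zpow_one, mul_assoc, zpow_mul, zpow_two]
        exact mul_mem hk (mul_mem (zpow_mem (hsqK b) j) (hsqK b))
    · show φ y * (a : G ⧸ O) = φ (y * z)
      rw [map_mul, hza]
  · intro y hy
    exact ⟨_, hsqK ⟨φ y, mem_map_of_mem _ hy⟩, (map_mul φ y y).symm⟩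

/-- The core is of odd order. -/
theorem odd_core (hS : Crit59.Setting H D) (hC : Crit59.ProdClosed H D) (htop : closure D = ⊤)
    (hSE : Cfsg.IsStronglyEmbedded (hbar H)) : Odd (Nat.card H.normalCore) := by
  by_contra hev
  obtain ⟨M, z, hMn, hMN, hzN, hzM, hMz, hMsq⟩ :=
    exists_half hS hC htop (Nat.not_odd_iff_even.1 hev)
  haveI := hMn
  set N := H.normalCore with hN
  set μ := QuotientGroup.mk' M with hμ
  have hsurj : Function.Surjective μ := QuotientGroup.mk'_surjective M
  have hMH : M ≤ H := hMN.trans H.normalCore_le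
  have hmem : ∀ x : G, μ x ∈ H.map μ ↔ x ∈ H := by
    intro x
    refine ⟨?_, fun hx => mem_map_of_mem _ hx⟩
    rintro ⟨w, hw, e⟩
    simpa using mul_mem hw (hMH (QuotientGroup.eq.1 e))
  have hP := prodHyp_of_closed hS hC
  -- members congruent modulo `N` are congruent modulo `M`
  have hfib : ∀ d ∈ D, ∀ e ∈ D, d * e ∈ N → μ d = μ e := by
    intro d hd e he hde
    obtain ⟨k, hk⟩ := hS.meets d hd
    have h1 : k * d * k⁻¹ * (k * e * k⁻¹) = k * (d * e) * k⁻¹ := by group
    have hk2 : k * d * k⁻¹ * (k * e * k⁻¹) ∈ N :=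
      h1 ▸ H.normalCore_normal.conj_mem _ hde k
    obtain ⟨j, hj⟩ := odd_mul_of_mem_core hS hP (hS.conj d hd k) hk (hS.conj e he k) hk2
    set r := k * d * k⁻¹ * (k * e * k⁻¹) with hr
    have hrM : r ∈ M := by
      have h2 : r = (r * r) ^ (j + 1) := by
        rw [← pow_two, ← pow_mul, show 2 * (j + 1) = orderOf r + 1 by omega, pow_succ,
          pow_orderOf_eq_one, one_mul]
      rw [h2]
      exact pow_mem (hMsq r hk2) _
    have h3 : d * e ∈ M := by
      have := hMn.conj_mem r hrM k⁻¹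
      rwa [h1, inv_inv, show k⁻¹ * (k * (d * e) * k⁻¹) * k = d * e by group] at this
    show (d : G ⧸ M) = e
    rw [QuotientGroup.eq, invol_inv (hS.invol d hd)]
    exact h3
  have hnot : ∀ d ∈ D, μ d ≠ 1 := fun d hd e =>
    not_mem_core hS hd (hMN ((QuotientGroup.eq_one_iff d).1 e))
  have hzinv : μ z * μ z = 1 := by
    rw [← map_mul]; exact (QuotientGroup.eq_one_iff _).2 (hMsq z hzN)
  have hzord : orderOf (μ z) = 2 :=
    invol_iff.2 ⟨hzinv, fun e => hzM ((QuotientGroup.eq_one_iff z).1 e)⟩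
  have hcore : (H.map μ).normalCore = zpowers (μ z) := by
    refine le_antisymm ?_ ?_
    · intro w hw
      obtain ⟨x, rfl⟩ := hsurj w
      have hxN : x ∈ N := fun b => (hmem _).1 (by simpa [map_mul, map_inv] using hw (μ b))
      by_cases hxM : x ∈ M
      · rw [show μ x = 1 from (QuotientGroup.eq_one_iff x).2 hxM]
        exact one_mem _
      · have h1 : μ x * μ z = 1 := by
          rw [← map_mul]; exact (QuotientGroup.eq_one_iff _).2 (hMz x hxN hxM)
        rw [eq_inv_of_mul_eq_one_left h1]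
        exact inv_mem (mem_zpowers _)
    · rw [zpowers_le]
      intro b
      obtain ⟨b, rfl⟩ := hsurj b
      rw [← map_inv, ← map_mul, ← map_mul]
      exact mem_map_of_mem _ (hzN b)
  have hse : Cfsg.IsStronglyEmbedded (hbar (H.map μ)) := by
    set χ : G ⧸ M →* G ⧸ N :=
      QuotientGroup.map M N (MonoidHom.id G) (fun x hx => hMN hx) with hχ
    have hχs : Function.Surjective χ := by
      intro w
      obtain ⟨x, rfl⟩ := QuotientGroup.mk'_surjective N w
      exact ⟨μ x, rfl⟩
    have hker : (H.map μ).normalCore = χ.ker := by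
      ext w
      obtain ⟨x, rfl⟩ := hsurj w
      rw [MonoidHom.mem_ker, show χ (μ x) = QuotientGroup.mk' N x from rfl]
      refine ⟨fun hw => (QuotientGroup.eq_one_iff x).2
        fun b => (hmem _).1 (by simpa [map_mul, map_inv] using hw (μ b)), fun hw b => ?_⟩
      obtain ⟨b, rfl⟩ := hsurj b
      rw [← map_inv, ← map_mul, ← map_mul]
      exact mem_map_of_mem _ ((QuotientGroup.eq_one_iff x).1 hw b)
    refine Crit59.Transport.of_equiv
      ((QuotientGroup.quotientMulEquivOfEq hker).trans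
        (QuotientGroup.quotientKerEquivOfSurjective χ hχs)) (fun x => ?_) hSE
    induction x using QuotientGroup.induction_on with
    | H w =>
      obtain ⟨x, rfl⟩ := hsurj w
      refine (mem_hbar.trans (hmem x)).trans ?_
      exact mem_hbar.symm
  refine CoreInvol.false (H := H.map μ) (D := μ '' D) (z := μ z)
    ⟨⟨?_, ?_, ?_, ?_, ?_, ?_⟩, ?_, ?_, hzord, hcore, ?_, hse⟩
  · exact fun htop' => hS.ne_top (eq_top_iff.2 fun g _ => (hmem g).1 (htop' ▸ mem_top _))
  · rintro _ ⟨d, hd, rfl⟩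
    exact invol_iff.2 ⟨by rw [← map_mul, invol_mul_self (hS.invol d hd), map_one], hnot d hd⟩
  · rintro _ ⟨d, hd, rfl⟩ x
    obtain ⟨g, rfl⟩ := hsurj x
    exact ⟨g * d * g⁻¹, hS.conj d hd g, by simp⟩
  · rintro _ ⟨d, hd, rfl⟩
    obtain ⟨g, hg⟩ := hS.meets d hd
    exact ⟨μ g, by rw [← map_inv, ← map_mul, ← map_mul]; exact (hmem _).2 hg⟩
  · rintro _ ⟨d, hd, rfl⟩ hdH x hx
    obtain ⟨g, rfl⟩ := hsurj x
    rw [← map_inv, ← map_mul, ← map_mul] at hx
    exact (hmem g).2 (hS.fix d hd ((hmem d).1 hdH) g ((hmem _).1 hx))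
  · let χ : G ⧸ M →* G ⧸ N := QuotientGroup.map M N (MonoidHom.id G) (fun x hx => hMN hx)
    let f : {x : G ⧸ M // x ∈ μ '' D ∧ x ∈ H.map μ} →
        {x : G ⧸ N // x ∈ dbar H D ∧ x ∈ hbar H} := fun x => ⟨χ x.1,
      (let ⟨d, hd, e⟩ := x.2.1; ⟨d, hd, by rw [← e]; rfl⟩),
      (let ⟨w, hw, e⟩ := x.2.2; by rw [← e]; exact mem_map_of_mem _ hw)⟩
    have hbij : Function.Bijective f := by
      constructor
      · rintro ⟨_, ⟨d, hd, rfl⟩, hdH⟩ ⟨_, ⟨e, he, rfl⟩, heH⟩ hab
        exact Subtype.ext (hfib d hd e he ((mem_fibre_iff hS hd).1 (congrArg Subtype.val hab)))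
      · rintro ⟨_, ⟨d, hd, rfl⟩, hdH⟩
        exact ⟨⟨μ d, ⟨d, hd, rfl⟩, (hmem d).2 (mem_hbar.1 hdH)⟩, rfl⟩
    rw [Nat.card_eq_of_bijective f hbij]
    exact (setting_quot hS hP).odd
  · -- closed
    rintro _ _ ⟨d, hd, rfl⟩ hdH ⟨e, he, rfl⟩ heH hc hne
    have hdH' := (hmem d).1 hdH
    have heH' := (hmem e).1 heH
    set r := d * e with hr
    have hr2 : μ (r ^ 2) = 1 := by
      rw [map_pow, hr, map_mul, hc.mul_pow, pow_two, pow_two, ← map_mul, ← map_mul,
        invol_mul_self (hS.invol d hd), invol_mul_self (hS.invol e he), map_one, one_mul]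
    have hev : Even (orderOf r) := by
      by_contra h
      obtain ⟨n, hn⟩ := Nat.not_even_iff_odd.1 h
      refine hne ?_
      have h1 : r = (r ^ 2) ^ (n + 1) := by
        rw [← pow_mul, show 2 * (n + 1) = orderOf r + 1 by omega, pow_succ, pow_orderOf_eq_one,
          one_mul]
      have h2 : μ r = 1 := by rw [h1, map_pow, hr2, one_pow]
      rw [hr, map_mul] at h2
      rw [eq_inv_of_mul_eq_one_left h2, ← map_inv, invol_inv (hS.invol e he)]
    obtain ⟨hw, hwd, -⟩ := central_invol (hS.invol d hd) (hS.invol e he) hev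
    have he1 := exists_mul_invol (fun g x hx => hS.conj x hx g) hd he (hS.invol d hd)
      (hS.invol e he) hev
    set w := r ^ (orderOf r / 2) with hwdef
    have hwH : w ∈ H := pow_mem (mul_mem hdH' heH') _
    have hwD : w ∈ D := by
      have h1 := hC d _ hd hdH' he1 (mul_mem hdH' hwH) ((Commute.refl d).mul_right hwd.symm)
        (fun h => invol_ne_one hw (by simpa using h.symm))
      rwa [← mul_assoc, invol_mul_self (hS.invol d hd), one_mul] at h1
    refine ⟨w, hwD, ?_⟩
    rcases Nat.even_or_odd (orderOf r / 2) with ⟨j, hj⟩ | ⟨j, hj⟩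
    · exact absurd (by rw [hwdef, hj, ← two_mul, pow_mul, map_pow, hr2, one_pow]) (hnot w hwD)
    · rw [hwdef, hj, pow_succ, pow_mul, map_mul, map_pow, hr2, one_pow, one_mul, hr, map_mul]
  · rw [← MonoidHom.map_closure, htop, ← MonoidHom.range_eq_map, MonoidHom.range_eq_top]
    exact hsurj
  · rintro _ ⟨d, hd, rfl⟩ ⟨e, he, hde⟩
    have h1 : μ d = μ e := hfib d hd e he (by
      refine (mem_fibre_iff hS hd).1 ?_
      have h2 := congrArg (QuotientGroup.map M N (MonoidHom.id G) (fun x hx => hMN hx)) hde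
      rw [map_mul] at h2
      change QuotientGroup.mk' N e = QuotientGroup.mk' N d * QuotientGroup.mk' N z at h2
      rw [h2, show QuotientGroup.mk' N z = 1 from (QuotientGroup.eq_one_iff z).2 hzN, mul_one])
    rw [hde] at *
    exact invol_ne_one hzord (mul_eq_left.1 h1.symm)

/-- The kernel property. -/
theorem propKernel : Crit59.Assembly.PropKernel.{u} :=
  fun _ _ _ _ _ hS hC htop hSE => odd_core hS hC htop hSE

end Cfsg.Agent.Lib.Crit8
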