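import Cfsg.Agent.Lib.Crit8.Prod.Restrict

/-!
# The single fixed point criterion: consequences of the product hypothesis

Members at different points have odd product, with no induction, and in the faithful case commuting
members have their product in `D`.  See `notes/crit_helper8.md`.
-/

set_option autoImplicit false
set_option linter.style.haveILetI false

namespace Cfsg.Agent.Lib.Crit8

open MulAction Subgroup Cfsg.Agent.Lib.Involutions.Basic

/-- The product hypothesis at every point. -/
def ProdAct (G Ω : Type*) [Group G] [MulAction G Ω] (D : Set G) : Prop :=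
  ∀ d ∈ D, ∀ e ∈ D, ∀ a : Ω, d • a = a → e • a = a → Commute d e → d ≠ e →
    centralizer ({d * e} : Set G) ≤ stabilizer G a

variable {G : Type*} [Group G]

/-- In a dihedral group of order divisible by four a conjugate of the generators differs from the
first by the central involution. -/
theorem exists_mul_invol [Finite G] {D : Set G} (hconj : ∀ (g : G), ∀ x ∈ D, g * x * g⁻¹ ∈ D)
    {d e : G} (hd : d ∈ D) (he : e ∈ D) (hd2 : orderOf d = 2) (he2 : orderOf e = 2)
    (hev : Even (orderOf (d * e))) : d * (d * e) ^ (orderOf (d * e) / 2) ∈ D := by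
  have hdd := invol_mul_self hd2
  have hee := invol_mul_self he2
  set r := d * e with hr
  have hflip : ∀ i : ℤ, r ^ i * d = d * r ^ (-i) := fun i =>
    invert_comm hdd (invert_mul hdd hee) i
  have hdc : ∀ i : ℤ, (r ^ i)⁻¹ * d * r ^ i = d * r ^ (2 * i) := by
    intro i
    rw [← zpow_neg, hflip, neg_neg, mul_assoc, ← zpow_add, two_mul]
  obtain ⟨k, hk⟩ := hev
  rw [hk, show (k + k) / 2 = k by omega, ← zpow_natCast]
  rcases Nat.even_or_odd k with ⟨j, hj⟩ | ⟨j, hj⟩
  · have := hconj (r ^ (j : ℤ))⁻¹ d hd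
    rwa [inv_inv, hdc, show 2 * (j : ℤ) = ((k : ℕ) : ℤ) by omega] at this
  · have := hconj (r ^ (j : ℤ))⁻¹ e he
    have e1 : e = d * r := by rw [hr, ← mul_assoc, hdd, one_mul]
    have e2 : (r ^ (j : ℤ))⁻¹ * e * r ^ (j : ℤ) = d * r ^ ((k : ℕ) : ℤ) := by
      rw [e1, ← mul_assoc, ← zpow_neg, hflip, neg_neg, mul_assoc, mul_assoc]
      congr 1
      rw [← zpow_one_add, ← zpow_add,
        show (j : ℤ) + (1 + (j : ℤ)) = ((k : ℕ) : ℤ) by omega]
    rwa [inv_inv, e2] at this

variable {Ω : Type*} [MulAction G Ω] {D : Set G}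

/-- Members with different fixed points have product of odd order, from the product hypothesis. -/
theorem odd_mul_of_prod [Finite G] (hinv : ∀ d ∈ D, orderOf d = 2)
    (hconj : ∀ (g : G), ∀ x ∈ D, g * x * g⁻¹ ∈ D) (hone : ∀ d ∈ D, ∃! x : Ω, d • x = x)
    (hP : ProdAct G Ω D) {d e : G} {a : Ω} (hd : d ∈ D) (he : e ∈ D) (ha : d • a = a)
    (hea : e • a ≠ a) : Odd (orderOf (d * e)) := by
  by_contra hev
  rw [Nat.not_odd_iff_even] at hev
  have heq : orderOf (e * d) = orderOf (d * e) := (show e * d = (d * e)⁻¹ by rw [mul_inv_rev, invol_inv (hinv d hd), invol_inv (hinv e he)]) ▸ orderOf_inv (d * e)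
  have hev' : Even (orderOf (e * d)) := heq ▸ hev
  obtain ⟨hw, hwe, hwd⟩ := central_invol (hinv e he) (hinv d hd) hev'
  have he' := exists_mul_invol hconj he hd (hinv e he) (hinv d hd) hev'
  set w := (e * d) ^ (orderOf (e * d) / 2) with hwdef
  obtain ⟨b, hb, hb'⟩ := hone e he
  obtain ⟨z, -, hz⟩ := hone d hd
  have hwb : w • b = b := by
    refine hb' _ ?_
    show e • _ = _
    rw [smul_smul, ← hwe.eq, ← smul_smul, hb]
  have hne : e ≠ e * w := fun h => invol_ne_one hw (by simpa using h.symm)
  have hc : Commute e (e * w) := (Commute.refl e).mul_right hwe.symm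
  have key := hP e he _ he' b hb (by rw [mul_smul, hwb, hb]) hc hne
  have hdC : d ∈ centralizer ({e * (e * w)} : Set G) := by
    rw [← mul_assoc, invol_mul_self (hinv e he), one_mul]
    exact mem_centralizer_singleton_iff.2 hwd.symm.eq
  have hdb : d • b = b := key hdC
  have hab : a = b := (hz a ha).trans (hz b hdb).symm
  exact hea (hab ▸ hb)

variable {H : Subgroup G}

/-- The product hypothesis on the cosets of `H`. -/
theorem prodAct_of_prodHyp (hS : Crit59.Setting H D) (hP : Crit59.ProdHyp H D) :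
    ProdAct G (G ⧸ H) D := by
  intro d hd e he a hda hea hc hne x hx
  induction a using QuotientGroup.induction_on with
  | H g =>
    have h1 : ∀ y ∈ D, g⁻¹ * y * g ∈ D := fun y hy => by simpa using hS.conj y hy g⁻¹
    refine smul_mk_eq_iff.2 (hP _ _ (h1 d hd) (smul_mk_eq_iff.1 hda) (h1 e he)
      (smul_mk_eq_iff.1 hea) ?_ (fun h => hne (by simpa using h)) ?_)
    · show g⁻¹ * d * g * (g⁻¹ * e * g) = g⁻¹ * e * g * (g⁻¹ * d * g)
      calc g⁻¹ * d * g * (g⁻¹ * e * g) = g⁻¹ * (d * e) * g := by group
        _ = g⁻¹ * (e * d) * g := by rw [hc.eq]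
        _ = _ := by group
    · have hxx := mem_centralizer_singleton_iff.1 hx
      refine mem_centralizer_singleton_iff.2 ?_
      calc g⁻¹ * x * g * (g⁻¹ * d * g * (g⁻¹ * e * g)) = g⁻¹ * (x * (d * e)) * g := by group
        _ = g⁻¹ * (d * e * x) * g := by rw [hxx]
        _ = _ := by group

/-- The setting on the cosets of `H` under the product hypothesis. -/
theorem pre_of_prodHyp [Finite G] (hS : Crit59.Setting H D) (hP : Crit59.ProdHyp H D) :
    Pre G (G ⧸ H) D :=
  pre_of_odd_mul hS (let ⟨d, hd, _⟩ := nonempty_of_setting hS; ⟨d, hd⟩)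
    fun _ hd _ he _ ha hea => odd_mul_of_prod hS.invol (fun g x hx => hS.conj x hx g)
      (fun _ hx => one_of_setting hS hx) (prodAct_of_prodHyp hS hP) hd he ha hea

/-- In a faithful action two commuting members have their product in `D`. -/
theorem Pre.mul_mem_D_of_prod [Finite G] [FaithfulSMul G Ω] (h : Pre G Ω D)
    (hP : ProdAct G Ω D) {d e : G} (hd : d ∈ D) (he : e ∈ D) (hne : d ≠ e) (hc : Commute d e) :
    d * e ∈ D := by
  obtain ⟨a, ha⟩ := (h.one d hd).exists
  have hea : e • a = a := h.smul_eq_of_commute hd ha hc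
  refine h.mul_mem_D_of_not_bad hd he hne hc fun hb => ?_
  exact h.not_le_stab hb (a := a) (by rw [mul_smul, hea, ha]) (hP d hd e he a ha hea hc hne)

/-- Product closure implies the product hypothesis. -/
theorem prodHyp_of_closed (hS : Crit59.Setting H D) (hC : Crit59.ProdClosed H D) :
    Crit59.ProdHyp H D :=
  fun d e hd hdH he heH hc hne => hS.centralizer_le (hC d e hd hdH he heH hc hne) (mul_mem hdH heH)

/-- The local hypothesis implies the product hypothesis. -/
theorem prodHyp_of_localHyp [Finite G] (hS : Crit59.Setting H D) (hL : Crit59.LocalHyp H D) :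
    Crit59.ProdHyp H D := by
  intro d e hd hdH he heH hc hne g hg
  by_contra hgH
  have hde : orderOf (d * e) = 2 := by
    refine invol_iff.2 ⟨?_, fun h1 => hne ?_⟩
    · calc d * e * (d * e) = d * (e * d) * e := by group
        _ = d * (d * e) * e := by rw [hc.eq]
        _ = (d * d) * (e * e) := by group
        _ = 1 := by rw [invol_mul_self (hS.invol d hd), invol_mul_self (hS.invol e he), one_mul]
    · rw [eq_inv_of_mul_eq_one_left h1, invol_inv (hS.invol e he)]
  have hH : d * e ∈ H := mul_mem hdH heH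
  have hge : g * (d * e) * g⁻¹ = d * e := by
    rw [mem_centralizer_singleton_iff.1 hg]; group
  have hSE := hL (d * e) hde hH ⟨g, hge.symm ▸ hH, hgH⟩
  set L := Subgroup.closure {x : G | x ∈ D ∧ x * (d * e) = d * e * x} with hLdef
  have hmem : d * e ∈ L := mul_mem (subset_closure ⟨hd, ((Commute.refl d).mul_right hc).eq⟩)
    (subset_closure ⟨he, (hc.symm.mul_right (Commute.refl e)).eq⟩)
  have hcen : ∀ x ∈ L, Commute x (d * e) := by
    intro x hx
    induction hx using Subgroup.closure_induction with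
    | mem x hx => exact hx.2
    | one => exact Commute.one_left _
    | mul x y _ _ hx hy => exact hx.mul_left hy
    | inv x _ hx => exact hx.inv_left
  obtain ⟨htop, -, hodd⟩ := hSE
  obtain ⟨x, -, hx⟩ := SetLike.exists_of_lt (lt_top_iff_ne_top.2 htop)
  refine (odd_card_iff_no_invol _).1 (hodd x hx) ⟨d * e, hmem⟩
    ⟨hH, ⟨d * e, hmem⟩, hH, Subtype.ext ?_⟩ (by rw [← Subgroup.orderOf_coe]; exact hde)
  show (x : G) * (d * e) * (x : G)⁻¹ = d * e
  rw [(hcen x x.2).eq, mul_inv_cancel_right]

/-- An involution whose centraliser lies in `H` fixes one coset only. -/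
theorem mem_of_centralizer_le [Finite G] (hS : Crit59.Setting H D) {w : G} (hw : orderOf w = 2)
    (hC : centralizer ({w} : Set G) ≤ H) {g : G} (hgw : g * w * g⁻¹ ∈ H) : g ∈ H := by
  obtain ⟨⟨f, ⟨hf, hfw⟩, hfH⟩⟩ := (Nat.card_pos_iff.1
    (odd_commute hS ((orderOf_conj_eq g w).trans hw) hgw).pos).1
  have hm : g⁻¹ * f * g ∈ centralizer ({w} : Set G) := mem_centralizer_singleton_iff.2 (by
    calc g⁻¹ * f * g * w = g⁻¹ * (f * (g * w * g⁻¹)) * g := by group
      _ = g⁻¹ * (g * w * g⁻¹ * f) * g := by rw [hfw.eq]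
      _ = _ := by group)
  exact inv_mem_iff.1 (hS.fix f hf hfH g⁻¹ (by simpa using hC hm))

/-- Two members at the base point with product in the core have product of odd order. -/
theorem odd_mul_of_mem_core [Finite G] (hS : Crit59.Setting H D) (hP : Crit59.ProdHyp H D)
    {d e : G} (hd : d ∈ D) (hdH : d ∈ H) (he : e ∈ D) (hN : d * e ∈ H.normalCore) :
    Odd (orderOf (d * e)) := by
  by_contra hev
  rw [Nat.not_odd_iff_even] at hev
  obtain ⟨hw, hwd, -⟩ := central_invol (hS.invol d hd) (hS.invol e he) hev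
  have he' := exists_mul_invol (fun g x hx => hS.conj x hx g) hd he (hS.invol d hd) (hS.invol e he) hev
  set w := (d * e) ^ (orderOf (d * e) / 2) with hwdef
  have hwN : w ∈ H.normalCore := pow_mem hN _
  have hwH : w ∈ H := H.normalCore_le hwN
  have key : centralizer ({w} : Set G) ≤ H := by
    have h1 := hP d _ hd hdH he' (mul_mem hdH hwH) ((Commute.refl d).mul_right hwd.symm)
      (fun h => invol_ne_one hw (by simpa using h.symm))
    rwa [← mul_assoc, invol_mul_self (hS.invol d hd), one_mul] at h1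
  obtain ⟨g, -, hg⟩ := SetLike.exists_of_lt (lt_top_iff_ne_top.2 hS.ne_top)
  exact hg (mem_of_centralizer_le hS hw key
    (H.normalCore_le (H.normalCore_normal.conj_mem w hwN g)))

end Cfsg.Agent.Lib.Crit8
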