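import Cfsg.Agent.Lib.Crit8.Prod.Quot
import Cfsg.Agent.Lib.Multiplier.Sylow

/-!
# The single fixed point criterion: no central involution in a Sylow subgroup of Suzuki type

`u` is a central involution of `G`, no element squares to `u`, and `D` is closed under products of
commuting members.  If the Sylow subgroup `S ◁ H` has order `2q` or `2q²` (`q ≥ 8`) with `S/⟨u⟩` of
exponent dividing four, where `q - 1` members lie in `H`, then `u` is no commutator: the squares
outside the exponent two part are all in `D` or all in `Du`; the first puts `[S,S]` into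
`E = D ∩ H ∪ {1}`, the second contradicts the bilinearity of commutators.
-/

set_option autoImplicit false
set_option linter.style.haveILetI false

namespace Cfsg.Agent.Lib.Crit8

open MulAction Subgroup Cfsg.Agent.Lib.Involutions.Basic

variable {G : Type*} [Group G] {H : Subgroup G} {D : Set G} {u : G}

/-- The facts about the central extension used below. -/
structure CentralData (H : Subgroup G) (D : Set G) (u : G) (S : Sylow 2 G) : Prop where
  setting : Crit59.Setting H D
  closed : Crit59.ProdClosed H D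
  invol : orderOf u = 2
  central : u ∈ center G
  le : (S : Subgroup G) ≤ H
  normal : ∀ h ∈ H, ∀ s ∈ (S : Subgroup G), h * s * h⁻¹ ∈ (S : Subgroup G)
  mul_not : ∀ d ∈ D, d * u ∉ D
  trans : ∀ d ∈ D, d ∈ H → ∀ e ∈ D, e ∈ H → ∃ h ∈ H, h * d * h⁻¹ = e
  cases : ∀ x ∈ H, orderOf x = 2 → x ∈ D ∨ x * u ∈ D ∨ x = u
  no_root : ∀ x : G, x * x ≠ u
  exp : ∀ x ∈ (S : Subgroup G), (x * x) * (x * x) = 1 ∨ (x * x) * (x * x) = u

variable [Finite G] {S : Sylow 2 G} (hd : CentralData H D u S)
include hd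

theorem CentralData.comm (g : G) : g * u = u * g := mem_center_iff.1 hd.central g

theorem CentralData.usq : u * u = 1 := invol_mul_self hd.invol

theorem CentralData.u_mem : u ∈ (S : Subgroup G) := by
  haveI : Fact (Nat.Prime 2) := ⟨Nat.prime_two⟩
  exact Multiplier.central_pElement_mem_sylow S u hd.central (k := 1)
    (by rw [pow_one, pow_two, hd.usq])

/-- The members in `H` centralise `S` and lie in it. -/
theorem CentralData.member_central {d : G} (hdD : d ∈ D) (hdH : d ∈ H) :
    d ∈ (S : Subgroup G) ∧ ∀ s ∈ (S : Subgroup G), Commute s d := by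
  haveI : Fact (Nat.Prime 2) := ⟨Nat.prime_two⟩
  set α := {x : G // x ∈ D ∧ x ∈ H}
  letI : MulAction (S : Subgroup G) α :=
    { smul := fun s x => ⟨s * x.1 * (s : G)⁻¹, hd.setting.conj _ x.2.1 s,
        mul_mem (mul_mem (hd.le s.2) x.2.2) (inv_mem (hd.le s.2))⟩
      one_smul := fun x => Subtype.ext (by show (1 : G) * x.1 * (1 : G)⁻¹ = x.1; simp)
      mul_smul := fun a b x => Subtype.ext (by
        show ((a : G) * b) * x.1 * ((a : G) * b)⁻¹ = a * (b * x.1 * (b : G)⁻¹) * (a : G)⁻¹
        group) }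
  have hfix : ∃ z : α, ∀ s : (S : Subgroup G), s • z = z := by
    have h1 := S.2.card_modEq_card_fixedPoints α
    have hodd : Nat.card α % 2 = 1 := Nat.odd_iff.1 hd.setting.odd
    have h2 : Nat.card (fixedPoints (S : Subgroup G) α) ≠ 0 := by
      intro h0
      rw [h0] at h1
      exact absurd (Eq.trans hodd.symm h1) (by norm_num)
    obtain ⟨⟨z, hz⟩⟩ := (Nat.card_ne_zero.1 h2).1
    exact ⟨z, hz⟩
  obtain ⟨⟨z, hzD, hzH⟩, hz⟩ := hfix
  have hzc : ∀ s ∈ (S : Subgroup G), Commute s z := fun s hs =>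
    mul_inv_eq_iff_eq_mul.1 (congrArg Subtype.val (hz ⟨s, hs⟩))
  have hzS : z ∈ (S : Subgroup G) := by
    have hz2 : IsPGroup 2 (zpowers z) := IsPGroup.of_card (n := 1) (by
      rw [Nat.card_zpowers, hd.setting.invol z hzD, pow_one])
    have hle : zpowers z ≤ normalizer ((S : Subgroup G) : Set G) :=
      zpowers_le.2 (mem_normalizer_iff.2 fun x => ⟨hd.normal z hzH x, fun h => by
        have := hd.normal z⁻¹ (inv_mem hzH) _ h
        simpa [mul_assoc] using this⟩)
    have hsup : IsPGroup 2 ↥((S : Subgroup G) ⊔ zpowers z) :=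
      IsPGroup.to_sup_of_normal_left' S.2 hz2 hle
    exact (S.3 hsup le_sup_left).le (mem_sup_right (mem_zpowers z))
  obtain ⟨h, hh, rfl⟩ := hd.trans z hzD hzH d hdD hdH
  refine ⟨hd.normal h hh z hzS, fun s hs => ?_⟩
  have h1 := hzc (h⁻¹ * s * h) (by simpa using hd.normal h⁻¹ (inv_mem hh) s hs)
  calc s * (h * z * h⁻¹) = h * (h⁻¹ * s * h * z) * h⁻¹ := by group
    _ = h * (z * (h⁻¹ * s * h)) * h⁻¹ := by rw [h1.eq]
    _ = h * z * h⁻¹ * s := by group

/-- `E`: the members in `H` with the identity. -/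
def CentralData.E : Subgroup G where
  carrier := {x | x = 1 ∨ (x ∈ D ∧ x ∈ H)}
  one_mem' := Or.inl rfl
  mul_mem' := by
    rintro a b (rfl | ⟨ha, haH⟩) hb
    · rwa [one_mul]
    rcases hb with rfl | ⟨hb, hbH⟩
    · rw [mul_one]; exact Or.inr ⟨ha, haH⟩
    by_cases hab : a = b
    · subst hab; exact Or.inl (invol_mul_self (hd.setting.invol a ha))
    · exact Or.inr ⟨hd.closed a b ha haH hb hbH
        ((hd.member_central hb hbH).2 a (hd.member_central ha haH).1) hab, mul_mem haH hbH⟩
  inv_mem' := by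
    rintro a (rfl | ⟨ha, haH⟩)
    · exact Or.inl inv_one
    · rw [invol_inv (hd.setting.invol a ha)]; exact Or.inr ⟨ha, haH⟩

theorem CentralData.u_not_mem_E : u ∉ hd.E := by
  rintro (h | ⟨h, -⟩)
  · exact invol_ne_one hd.invol h
  · obtain ⟨d, hdD, hdH⟩ := nonempty_of_setting hd.setting
    obtain ⟨g, -, hg⟩ := SetLike.exists_of_lt (lt_top_iff_ne_top.2 hd.setting.ne_top)
    exact hg (hd.setting.fix u h (hd.le hd.u_mem) g (by
      rw [hd.comm g, mul_inv_cancel_right]; exact hd.le hd.u_mem))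

/-- An element of `S` squaring to one is `1`, `u`, or in `E` or `Eu`, and is central in `S`. -/
theorem CentralData.small {x : G} (hx : x ∈ (S : Subgroup G)) (h2 : x * x = 1) :
    (x ∈ hd.E ∨ x * u ∈ hd.E) ∧ ∀ s ∈ (S : Subgroup G), Commute s x := by
  by_cases h1 : x = 1
  · subst h1; exact ⟨Or.inl (one_mem _), fun s _ => Commute.one_right s⟩
  rcases hd.cases x (hd.le hx) (invol_iff.2 ⟨h2, h1⟩) with h | h | h
  · exact ⟨Or.inl (Or.inr ⟨h, hd.le hx⟩), (hd.member_central h (hd.le hx)).2⟩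
  · have hH := mul_mem (hd.le hx) (hd.le hd.u_mem)
    refine ⟨Or.inr (Or.inr ⟨h, hH⟩), fun s hs => ?_⟩
    have h3 := ((hd.member_central h hH).2 s hs).mul_right (show Commute s u from hd.comm s)
    rwa [mul_assoc, hd.usq, mul_one] at h3
  · subst h
    exact ⟨Or.inr (by rw [hd.usq]; exact one_mem _), fun s _ => hd.comm s⟩

theorem CentralData.sq_sq {x : G} (hx : x ∈ (S : Subgroup G)) : x * x * (x * x) = 1 :=
  (hd.exp x hx).resolve_right (hd.no_root (x * x))

theorem CentralData.sq_central {x : G} (hx : x ∈ (S : Subgroup G)) :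
    ∀ s ∈ (S : Subgroup G), Commute s (x * x) :=
  (hd.small (mul_mem hx hx) (hd.sq_sq hx)).2

/-- The exponent two part `C` of `S`. -/
def CentralData.C : Subgroup G where
  carrier := {x | x ∈ (S : Subgroup G) ∧ x * x = 1}
  one_mem' := ⟨one_mem _, one_mul 1⟩
  mul_mem' := by
    rintro a b ⟨ha, ha2⟩ ⟨hb, hb2⟩
    refine ⟨mul_mem ha hb, ?_⟩
    calc a * b * (a * b) = a * (b * a) * b := by group
      _ = a * (a * b) * b := by rw [((hd.small ha ha2).2 b hb).eq]
      _ = (a * a) * (b * b) := by group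
      _ = 1 := by rw [ha2, hb2, one_mul]
  inv_mem' := by
    rintro a ⟨ha, ha2⟩
    exact ⟨inv_mem ha, by rw [← mul_inv_rev, ha2, inv_one]⟩

theorem CentralData.C_eq_sup : hd.C = hd.E ⊔ zpowers u := by
  refine le_antisymm (fun x hx => ?_) (sup_le ?_ (zpowers_le.2 ⟨hd.u_mem, hd.usq⟩))
  · rcases (hd.small hx.1 hx.2).1 with h | h
    · exact mem_sup_left h
    · have h1 := mul_mem (mem_sup_left (T := zpowers u) h) (mem_sup_right (mem_zpowers u))
      rwa [mul_assoc, hd.usq, mul_one] at h1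
  · rintro x (rfl | ⟨h, hH⟩)
    · exact one_mem _
    · exact ⟨(hd.member_central h hH).1, invol_mul_self (hd.setting.invol x h)⟩

theorem CentralData.card_E : Nat.card hd.E = Nat.card {x : G // x ∈ D ∧ x ∈ H} + 1 := by
  classical
  haveI := Fintype.ofFinite G
  rw [Nat.card_eq_fintype_card, Nat.card_eq_fintype_card, Fintype.card_subtype, Fintype.card_subtype]
  have h1 : (1 : G) ∉ Finset.univ.filter fun x => x ∈ D ∧ x ∈ H := by
    simp only [Finset.mem_filter, Finset.mem_univ, true_and, not_and]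
    exact fun h => absurd rfl (invol_ne_one (hd.setting.invol 1 h))
  rw [← Finset.card_insert_of_notMem h1]
  congr 1
  ext x
  simp only [Finset.mem_filter, Finset.mem_univ, true_and, Finset.mem_insert]
  exact Iff.rfl

theorem CentralData.card_C : Nat.card hd.C = 2 * Nat.card hd.E := by
  haveI : Fintype hd.C := Fintype.ofFinite _
  let f : hd.E × Bool → hd.C := fun p => ⟨if p.2 then (p.1 : G) * u else p.1, by
    rw [hd.C_eq_sup]
    split
    · exact mul_mem (mem_sup_left p.1.2) (mem_sup_right (mem_zpowers u))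
    · exact mem_sup_left p.1.2⟩
  have hf : Function.Bijective f := by
    constructor
    · rintro ⟨⟨a, ha⟩, s⟩ ⟨⟨b, hb⟩, t⟩ h
      have h' : (if s then a * u else a) = (if t then b * u else b) := congrArg Subtype.val h
      cases s <;> cases t <;> simp only [if_true, if_false, Bool.false_eq_true] at h'
      · subst h'; rfl
      · refine absurd ?_ hd.u_not_mem_E
        have e : b⁻¹ * a = u := by rw [h']; group
        exact Eq.subst (motive := fun z => z ∈ hd.E) e (mul_mem (inv_mem hb) ha)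
      · refine absurd ?_ hd.u_not_mem_E
        have e : a⁻¹ * b = u := by rw [← h']; group
        exact Eq.subst (motive := fun z => z ∈ hd.E) e (mul_mem (inv_mem ha) hb)
      · obtain rfl := mul_right_cancel h'; rfl
    · rintro ⟨x, hx⟩
      rcases (hd.small hx.1 hx.2).1 with h | h
      · exact ⟨(⟨x, h⟩, false), rfl⟩
      · exact ⟨(⟨x * u, h⟩, true), Subtype.ext (by simp [f, mul_assoc, hd.usq])⟩
  rw [← Nat.card_congr (Equiv.ofBijective f hf), Nat.card_prod, Nat.card_eq_fintype_card (α := Bool),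
    Fintype.card_bool, mul_comm]

/-- The member under the square of an element outside `C`. -/
theorem CentralData.member_of_sq {x : G} (hx : x ∈ (S : Subgroup G)) (hxC : x ∉ hd.C) :
    ∃ d, d ∈ D ∧ d ∈ H ∧ (x * x = d ∨ x * x = d * u) := by
  have h1 : x * x ≠ 1 := fun h => hxC ⟨hx, h⟩
  rcases (hd.small (mul_mem hx hx) (hd.sq_sq hx)).1 with (h | ⟨h, hH⟩) | (h | ⟨h, hH⟩)
  · exact absurd h h1
  · exact ⟨_, h, hH, Or.inl rfl⟩
  · exact absurd (by rw [eq_inv_of_mul_eq_one_left h, invol_inv hd.invol]) (hd.no_root x)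
  · exact ⟨_, h, hH, Or.inr (by rw [mul_assoc (x * x), hd.usq, mul_one])⟩

/-- Elements with squares equal up to `u` are congruent modulo `C`. -/
theorem CentralData.mem_C_of_sq (hcard : Nat.card (S : Subgroup G) = 2 * Nat.card hd.E ^ 2)
    {x y : G} (hx : x ∈ (S : Subgroup G)) (hxC : x ∉ hd.C) (hy : y ∈ (S : Subgroup G))
    (hyC : y ∉ hd.C) (hxy : x * x = y * y ∨ x * x = y * y * u) : x⁻¹ * y ∈ hd.C := by
  classical
  haveI := Fintype.ofFinite G
  set A := Finset.univ.filter fun z : G => z ∈ (S : Subgroup G) ∧ z ∉ hd.C with hA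
  set B := Finset.univ.filter fun d : G => d ∈ D ∧ d ∈ H with hB
  have hex : ∀ z, ∃ d, z ∈ A → d ∈ B ∧ (z * z = d ∨ z * z = d * u) := by
    intro z
    by_cases hz : z ∈ A
    · rw [hA, Finset.mem_filter] at hz
      obtain ⟨d, h1, h2, h3⟩ := hd.member_of_sq hz.2.1 hz.2.2
      exact ⟨d, fun _ => ⟨by simp [hB, h1, h2], h3⟩⟩
    · exact ⟨1, fun h => absurd h hz⟩
  choose φ hφ using hex
  have huniq : ∀ {z d d' : G}, d ∈ B → d' ∈ B → (z = d ∨ z = d * u) → (z = d' ∨ z = d' * u) →
      d = d' := by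
    intro z d d' hdB hdB' h h'
    simp only [hB, Finset.mem_filter, Finset.mem_univ, true_and] at hdB hdB'
    rcases h with rfl | rfl <;> rcases h' with h' | h'
    · exact h'
    · exact absurd (h' ▸ hdB.1) (hd.mul_not d' hdB'.1)
    · exact absurd (h'.symm ▸ hdB'.1) (hd.mul_not d hdB.1)
    · exact mul_right_cancel h'
  have hsplit : A.card + Nat.card hd.C = Nat.card (S : Subgroup G) := by
    rw [Nat.card_eq_fintype_card, Nat.card_eq_fintype_card, Fintype.card_subtype, Fintype.card_subtype,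
      hA, add_comm, ← Finset.card_union_of_disjoint]
    · congr 1
      ext z
      simp only [Finset.mem_union, Finset.mem_filter, Finset.mem_univ, true_and]
      exact ⟨fun h => h.elim (fun h => h.1) (fun h => h.1),
        fun h => (em (z ∈ hd.C)).imp id fun h' => ⟨h, h'⟩⟩
    · exact Finset.disjoint_filter.2 fun z _ h1 h2 => h2.2 h1
  have hBc : B.card + 1 = Nat.card hd.E := by
    rw [hd.card_E, Nat.card_eq_fintype_card, Fintype.card_subtype]
  -- each member has a coset of `C` over it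
  have hfib : ∀ d ∈ B, 2 * Nat.card hd.E ≤ (A.filter fun z => φ z = d).card := by
    intro d hdB
    have hxA : x ∈ A := by simp [hA, hx, hxC]
    obtain ⟨hb0, hsq0⟩ := hφ x hxA
    simp only [hB, Finset.mem_filter, Finset.mem_univ, true_and] at hb0 hdB
    obtain ⟨k, hk, hkd⟩ := hd.trans _ hb0.1 hb0.2 d hdB.1 hdB.2
    set z := k * x * k⁻¹ with hz
    have hzS : z ∈ (S : Subgroup G) := hd.normal k hk x hx
    have hzz : z * z = k * (x * x) * k⁻¹ := by rw [hz]; group
    have hzsq : z * z = d ∨ z * z = d * u := by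
      rcases hsq0 with h | h
      · exact Or.inl (by rw [hzz, h, hkd])
      · refine Or.inr ?_
        rw [hzz, h, ← hkd]
        calc k * (φ x * u) * k⁻¹ = k * φ x * (u * k⁻¹) := by group
          _ = k * φ x * (k⁻¹ * u) := by rw [hd.comm k⁻¹]
          _ = _ := by group
    have hzC : z ∉ hd.C := fun h => hxC ⟨hx, by
      have h1 : k * (x * x) * k⁻¹ = 1 := hzz ▸ h.2
      calc x * x = k⁻¹ * (k * (x * x) * k⁻¹) * k := by group
        _ = 1 := by rw [h1]; group⟩
    rw [← hd.card_C, Nat.card_eq_fintype_card, ← Finset.card_univ]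
    refine Finset.card_le_card_of_injOn (fun c : hd.C => z * c) (fun c _ => ?_)
      (fun a _ b _ h => Subtype.ext (mul_left_cancel h))
    have hzc : z * c * (z * c) = z * z := by
      calc z * c * (z * c) = z * ((c : G) * z) * c := by group
        _ = z * (z * c) * c := by rw [((hd.small c.2.1 c.2.2).2 z hzS).eq]
        _ = z * z * ((c : G) * c) := by group
        _ = z * z := by rw [c.2.2, mul_one]
    have hmem : z * (c : G) ∈ A := by
      simp only [hA, Finset.mem_filter, Finset.mem_univ, true_and]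
      exact ⟨mul_mem hzS c.2.1, fun h => hzC (by simpa using mul_mem h (inv_mem c.2))⟩
    refine Finset.mem_filter.2 ⟨hmem, ?_⟩
    exact huniq (hφ _ hmem).1 (by simp [hB, hdB.1, hdB.2]) (hφ _ hmem).2 (by rw [hzc]; exact hzsq)
  by_contra hne
  have hxA : x ∈ A := by simp [hA, hx, hxC]
  have hyA : y ∈ A := by simp [hA, hy, hyC]
  have hφeq : φ y = φ x := by
    have h1 := (hφ y hyA).2
    refine huniq (hφ y hyA).1 (hφ x hxA).1 h1 ?_
    rcases hxy with e | e
    · rw [← e]; exact (hφ x hxA).2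
    · have e' : y * y = x * x * u := by rw [e, mul_assoc, hd.usq, mul_one]
      rw [e']
      rcases (hφ x hxA).2 with h | h
      · exact Or.inr (by rw [h])
      · exact Or.inl (by rw [h, mul_assoc, hd.usq, mul_one])
  -- the fibre of `x` then has two cosets
  have hbig : 2 * (2 * Nat.card hd.E) ≤ (A.filter fun z => φ z = φ x).card := by
    rw [← hd.card_C, Nat.card_eq_fintype_card, show 2 * Fintype.card hd.C =
      Fintype.card (Bool × hd.C) by rw [Fintype.card_prod, Fintype.card_bool], ← Finset.card_univ]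
    refine Finset.card_le_card_of_injOn (fun p => (if p.1 then x else y) * (p.2 : G))
      (fun p _ => ?_) ?_
    · obtain ⟨s, c⟩ := p
      set z := (if s then x else y) with hz
      have hzA : z ∈ A := by rw [hz]; split <;> assumption
      have hzS : z ∈ (S : Subgroup G) := (Finset.mem_filter.1 hzA).2.1
      have hzc : z * c * (z * c) = z * z := by
        calc z * c * (z * c) = z * ((c : G) * z) * c := by group
          _ = z * (z * c) * c := by rw [((hd.small c.2.1 c.2.2).2 z hzS).eq]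
          _ = z * z * ((c : G) * c) := by group
          _ = z * z := by rw [c.2.2, mul_one]
      have hmem : z * (c : G) ∈ A := by
        simp only [hA, Finset.mem_filter, Finset.mem_univ, true_and]
        exact ⟨mul_mem hzS c.2.1, fun h =>
          (Finset.mem_filter.1 hzA).2.2 (by simpa using mul_mem h (inv_mem c.2))⟩
      refine Finset.mem_filter.2 ⟨hmem, ?_⟩
      have hgoal : φ z = φ x := by rw [hz]; split <;> simp [hφeq]
      rw [← hgoal]
      exact huniq (hφ _ hmem).1 (hφ z hzA).1 (hφ _ hmem).2 (by rw [hzc]; exact (hφ z hzA).2)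
    · rintro ⟨s, a⟩ - ⟨t, b⟩ - h
      cases s <;> cases t <;> simp only [if_true, if_false, Bool.false_eq_true] at h
      · rw [Subtype.ext (mul_left_cancel h)]
      · refine absurd ?_ hne
        rw [show x⁻¹ * y = b * (a : G)⁻¹ by rw [eq_mul_inv_iff_mul_eq, mul_assoc, h]; group]
        exact mul_mem b.2 (inv_mem a.2)
      · refine absurd ?_ hne
        rw [show x⁻¹ * y = a * (b : G)⁻¹ by rw [eq_mul_inv_iff_mul_eq, mul_assoc, ← h]; group]
        exact mul_mem a.2 (inv_mem b.2)
      · rw [Subtype.ext (mul_left_cancel h)]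
  have htotal : A.card = ∑ d ∈ B, (A.filter fun z => φ z = d).card :=
    Finset.card_eq_sum_card_fiberwise fun z hz => (hφ z hz).1
  have hlt : ∑ _d ∈ B, 2 * Nat.card hd.E < ∑ d ∈ B, (A.filter fun z => φ z = d).card := by
    refine Finset.sum_lt_sum hfib ⟨φ x, (hφ x hxA).1, ?_⟩
    have := Nat.card_pos (α := hd.E)
    omega
  rw [Finset.sum_const, smul_eq_mul, ← htotal] at hlt
  have hC := hd.card_C
  nlinarith

/-- The square types agree. -/
theorem CentralData.same_type (hcard : Nat.card (S : Subgroup G) = 2 * Nat.card hd.E ^ 2)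
    {x y : G} (hx : x ∈ (S : Subgroup G)) (hy : y ∈ (S : Subgroup G))
    (hxC : x ∉ hd.C) (hyC : y ∉ hd.C) (hxE : x * x ∈ hd.E) : y * y ∈ hd.E := by
  obtain ⟨d, hdD, hdH, hxd⟩ := hd.member_of_sq hx hxC
  obtain ⟨e, heD, heH, hye⟩ := hd.member_of_sq hy hyC
  obtain ⟨k, hk, hke⟩ := hd.trans e heD heH d hdD hdH
  set z := k * y * k⁻¹ with hz
  have hzz : z * z = k * (y * y) * k⁻¹ := by rw [hz]; group
  have hzd : z * z = d ∨ z * z = d * u := by
    rcases hye with h | h
    · exact Or.inl (by rw [hzz, h, hke])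
    · refine Or.inr ?_
      rw [hzz, h, ← hke]
      calc k * (e * u) * k⁻¹ = k * e * (u * k⁻¹) := by group
        _ = k * e * (k⁻¹ * u) := by rw [hd.comm k⁻¹]
        _ = _ := by group
  have hrel : x * x = z * z ∨ x * x = z * z * u := by
    rcases hxd with h | h <;> rcases hzd with h' | h' <;> rw [h, h']
    · exact Or.inl rfl
    · exact Or.inr (by rw [mul_assoc, hd.usq, mul_one])
    · exact Or.inr rfl
    · exact Or.inl rfl
  have hzC : z ∉ hd.C := fun h => hyC ⟨hy, by
    have h1 : k * (y * y) * k⁻¹ = 1 := hzz ▸ h.2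
    calc y * y = k⁻¹ * (k * (y * y) * k⁻¹) * k := by group
      _ = 1 := by rw [h1]; group⟩
  have hc := hd.mem_C_of_sq hcard hx hxC (hd.normal k hk y hy) hzC hrel
  have hzx : z * z = x * x := by
    have := (hd.small hc.1 hc.2).2 x hx
    calc z * z = x * ((x⁻¹ * z) * x) * (x⁻¹ * z) := by group
      _ = x * (x * (x⁻¹ * z)) * (x⁻¹ * z) := by rw [this.eq]
      _ = x * x * ((x⁻¹ * z) * (x⁻¹ * z)) := by group
      _ = x * x := by rw [hc.2, mul_one]
  rcases hye with h | h
  · rw [h]; exact Or.inr ⟨heD, heH⟩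
  · exfalso
    have h1 : d * u ∈ hd.E := by
      have : z * z = d * u := by
        rw [hzz, h, ← hke]
        calc k * (e * u) * k⁻¹ = k * e * (u * k⁻¹) := by group
          _ = k * e * (k⁻¹ * u) := by rw [hd.comm k⁻¹]
          _ = _ := by group
      rw [← this, hzx]; exact hxE
    rcases h1 with h1 | ⟨h1, -⟩
    · exact hd.mul_not d hdD (by
        rw [eq_inv_of_mul_eq_one_left h1, invol_inv hd.invol] at hdD
        exact absurd (Or.inr ⟨hdD, hd.le hd.u_mem⟩) hd.u_not_mem_E)
    · exact hd.mul_not d hdD h1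

theorem CentralData.commutator_formula {a b : G} (ha : a ∈ (S : Subgroup G))
    (hb : b ∈ (S : Subgroup G)) : a * b * a⁻¹ * b⁻¹ = a * b * (a * b) * (a * a)⁻¹ * (b * b)⁻¹ := by
  have h1 := ((hd.sq_central ha) b hb).inv_right.eq
  calc a * b * a⁻¹ * b⁻¹ = a * b * (a * b) * (b⁻¹ * (a * a)⁻¹) * b⁻¹ := by group
    _ = a * b * (a * b) * ((a * a)⁻¹ * b⁻¹) * b⁻¹ := by
      rw [show b⁻¹ * (a * a)⁻¹ = (a * a)⁻¹ * b⁻¹ from ((hd.sq_central ha) b hb).inv_inv.eq]
    _ = _ := by group

/-- `u` is not a product of commutators of `S`. -/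
theorem CentralData.not_mem_commutator
    (hcard : Nat.card (S : Subgroup G) = 2 * Nat.card hd.E ∨
      (Nat.card (S : Subgroup G) = 2 * Nat.card hd.E ^ 2 ∧ 8 ≤ Nat.card hd.E)) :
    u ∉ ⁅(S : Subgroup G), (S : Subgroup G)⁆ := by
  have hCS : hd.C ≤ (S : Subgroup G) := fun x hx => hx.1
  rcases hcard with hcard | ⟨hcard, h8⟩
  · have hall : ∀ x ∈ (S : Subgroup G), x ∈ hd.C := by
      have : hd.C = (S : Subgroup G) :=
        Subgroup.eq_of_le_of_card_ge hCS (by rw [hd.card_C, hcard])
      exact fun x hx => this.symm ▸ hx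
    intro h
    have hbot : ⁅(S : Subgroup G), (S : Subgroup G)⁆ ≤ ⊥ := commutator_le.2 fun a ha b hb => by
      rw [mem_bot, commutatorElement_eq_one_iff_commute]
      exact (hd.small hb (hall b hb).2).2 a ha
    exact invol_ne_one hd.invol (mem_bot.1 (hbot h))
  by_cases hD : ∀ x ∈ (S : Subgroup G), x * x ∈ hd.E
  · intro h
    refine hd.u_not_mem_E ((commutator_le.2 fun a ha b hb => ?_) h)
    rw [commutatorElement_def, hd.commutator_formula ha hb]
    exact mul_mem (mul_mem (hD _ (mul_mem ha hb)) (inv_mem (hD a ha))) (inv_mem (hD b hb))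
  exfalso
  push Not at hD
  obtain ⟨x, hx, hxE⟩ := hD
  have hxC : x ∉ hd.C := fun h => hxE (by rw [h.2]; exact one_mem _)
  have hall : ∀ z ∈ (S : Subgroup G), z ∉ hd.C → z * z * u ∈ hd.E := by
    intro z hz hzC
    obtain ⟨d, hdD, hdH, e | e⟩ := hd.member_of_sq hz hzC
    · exact absurd (hd.same_type hcard hz hx hzC hxC (e ▸ Or.inr ⟨hdD, hdH⟩)) hxE
    · rw [e, mul_assoc, hd.usq, mul_one]; exact Or.inr ⟨hdD, hdH⟩
  have hcom : ∀ a ∈ (S : Subgroup G), ∀ b ∈ (S : Subgroup G), a ∉ hd.C → b ∉ hd.C →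
      a * b ∉ hd.C → a * b * a⁻¹ * b⁻¹ * u ∈ hd.E := by
    intro a ha b hb haC hbC habC
    have h1 := mul_mem (mul_mem (hall _ (mul_mem ha hb) habC) (inv_mem (hall a ha haC)))
      (inv_mem (hall b hb hbC))
    convert h1 using 1
    rw [hd.commutator_formula ha hb]
    have hu := hd.comm
    have hinv : u⁻¹ = u := invol_inv hd.invol
    rw [mul_inv_rev (a * a) u, mul_inv_rev (b * b) u, hinv]
    calc a * b * (a * b) * (a * a)⁻¹ * (b * b)⁻¹ * u
        = a * b * (a * b) * (a * a)⁻¹ * ((b * b)⁻¹ * u) := by group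
      _ = a * b * (a * b) * (a * a)⁻¹ * (u * (b * b)⁻¹) := by rw [hu]
      _ = a * b * (a * b) * (u * u * (a * a)⁻¹) * (u * (b * b)⁻¹) := by rw [hd.usq, one_mul]
      _ = _ := by group
  obtain ⟨a, ha, haC⟩ : ∃ a ∈ (S : Subgroup G), a ∉ hd.C := ⟨x, hx, hxC⟩
  -- two further elements independent modulo `C`
  classical
  haveI := Fintype.ofFinite G
  set Cf := Finset.univ.filter fun z : G => z ∈ hd.C with hCf
  have hpick : ∀ T : Finset G, T.card ≤ 4 → ∃ z ∈ (S : Subgroup G), ∀ t ∈ T, t⁻¹ * z ∉ hd.C := by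
    intro T hT
    by_contra hcon
    push Not at hcon
    have hsub : (Finset.univ.filter fun z : G => z ∈ (S : Subgroup G)) ⊆
        T.biUnion fun t => Cf.image fun c => t * c := fun z hz => by
      obtain ⟨t, ht, htz⟩ := hcon z (Finset.mem_filter.1 hz).2
      exact Finset.mem_biUnion.2 ⟨t, ht, Finset.mem_image.2
        ⟨t⁻¹ * z, by simpa [hCf] using htz, by group⟩⟩
    have h1 := (Finset.card_le_card hsub).trans Finset.card_biUnion_le
    have h2 : ∑ t ∈ T, (Cf.image fun c => t * c).card ≤ ∑ _t ∈ T, Cf.card :=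
      Finset.sum_le_sum fun t _ => Finset.card_image_le
    rw [Finset.sum_const, smul_eq_mul] at h2
    have h3 : Cf.card = 2 * Nat.card hd.E := by
      rw [← hd.card_C, Nat.card_eq_fintype_card, Fintype.card_subtype]
    have h4 : (Finset.univ.filter fun z : G => z ∈ (S : Subgroup G)).card =
        2 * Nat.card hd.E ^ 2 := by
      rw [← hcard, Nat.card_eq_fintype_card, Fintype.card_subtype]
    rw [h4] at h1
    rw [h3] at h2
    have h5 : T.card * (2 * Nat.card hd.E) ≤ 4 * (2 * Nat.card hd.E) :=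
      Nat.mul_le_mul_right _ hT
    nlinarith [h1.trans (h2.trans h5), Nat.mul_le_mul_right (Nat.card hd.E) h8]
  obtain ⟨b, hb, hbT⟩ := hpick {1, a⁻¹} (Finset.card_le_two.trans (by norm_num))
  have hbC : b ∉ hd.C := by simpa using hbT 1 (by simp)
  have habC : a * b ∉ hd.C := by simpa using hbT a⁻¹ (by simp)
  obtain ⟨c, hc, hcT⟩ := hpick {1, a⁻¹, b⁻¹, (a * b)⁻¹} Finset.card_le_four
  have hcC : c ∉ hd.C := by simpa using hcT 1 (by simp)
  have hacC : a * c ∉ hd.C := by simpa using hcT a⁻¹ (by simp)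
  have hbcC : b * c ∉ hd.C := by simpa using hcT b⁻¹ (by simp)
  have habcC : a * (b * c) ∉ hd.C := by
    have h := hcT (a * b)⁻¹ (by simp)
    rwa [inv_inv, mul_assoc] at h
  have k1 := hcom a ha b hb haC hbC habC
  have k2 := hcom a ha c hc haC hcC hacC
  have k3 := hcom a ha (b * c) (mul_mem hb hc) haC hbcC habcC
  have hcen : Commute b (a * c * a⁻¹ * c⁻¹) := by
    rw [hd.commutator_formula ha hc]
    exact ((hd.sq_central (mul_mem ha hc) b hb).mul_right
      (hd.sq_central ha b hb).inv_right).mul_right (hd.sq_central hc b hb).inv_right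
  have e : a * (b * c) * a⁻¹ * (b * c)⁻¹ = a * b * a⁻¹ * b⁻¹ * (a * c * a⁻¹ * c⁻¹) := by
    calc a * (b * c) * a⁻¹ * (b * c)⁻¹ = a * b * a⁻¹ * ((a * c * a⁻¹ * c⁻¹) * b⁻¹) := by group
      _ = a * b * a⁻¹ * (b⁻¹ * (a * c * a⁻¹ * c⁻¹)) := by rw [hcen.inv_left.eq]
      _ = _ := by group
  refine hd.u_not_mem_E ?_
  have k4 := mul_mem (inv_mem (mul_mem k1 k2)) k3
  convert k4 using 1
  rw [e]
  set p := a * b * a⁻¹ * b⁻¹
  set r := a * c * a⁻¹ * c⁻¹
  calc u = (u * u)⁻¹ * u := by rw [hd.usq, inv_one, one_mul]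
    _ = (p * r * (u * u))⁻¹ * (p * r * u) := by group
    _ = (p * u * (r * u))⁻¹ * (p * r * u) := by
      rw [show p * u * (r * u) = p * (u * r) * u by group, ← hd.comm r]
      group

end Cfsg.Agent.Lib.Crit8
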