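import Cfsg.Agent.Lib.Crit8.Prod.CentralSylow
import Cfsg.Agent.Lib.BenderOne.Final
import Cfsg.Agent.Lib.BenderConsumers23.Structure
import Cfsg.Agent.Lib.CentralInt88.Top
import Cfsg.Agent.Lib.IsolatedInvolution.InvariantSylow

/-!
# The single fixed point criterion: no central involution in the core

`G = ⟨D⟩`, `D` is closed under products of commuting members, the core of `H` is `⟨u⟩` of order two
and `H/⟨u⟩` is strongly embedded.  By Bender's theorem `G/⟨u⟩` is a linear, Suzuki or unitary group
(or has a unique involution in each point stabiliser, where Z* applies); then `u` is a commutator,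
which the multipliers and `CentralData.not_mem_commutator` exclude.
-/

set_option autoImplicit false
set_option linter.style.haveILetI false

namespace Cfsg.Agent.Lib.Crit8

open MulAction Subgroup Cfsg.Agent.Lib.Involutions.Basic
open Cfsg.Agent.Lib.BenderSuzuki (TwoRank qNum invs)
open Cfsg.Agent.Lib.BenderConsumers23 (Target)

universe u

variable {G : Type u} [Group G] [Finite G] {H : Subgroup G} {D : Set G} {z : G}

/-- What is assumed about a central involution in the core. -/
structure CoreInvol (H : Subgroup G) (D : Set G) (z : G) : Prop where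
  setting : Crit59.Setting H D
  closed : Crit59.ProdClosed H D
  top : closure D = ⊤
  invol : orderOf z = 2
  core : H.normalCore = zpowers z
  mul_not : ∀ d ∈ D, d * z ∉ D
  se : Cfsg.IsStronglyEmbedded (hbar H)

namespace CoreInvol

variable (h : CoreInvol H D z)
include h

omit [Finite G] in
theorem mem_core : z ∈ H.normalCore := h.core ▸ mem_zpowers z

omit [Finite G] in
theorem zsq : z * z = 1 := invol_mul_self h.invol

theorem mem_core_iff {x : G} : x ∈ H.normalCore ↔ x = 1 ∨ x = z := by
  rw [h.core, mem_zpowers_iff]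
  constructor
  · rintro ⟨k, rfl⟩
    rcases Int.even_or_odd k with ⟨j, rfl⟩ | ⟨j, rfl⟩
    · exact Or.inl (by rw [← two_mul, zpow_mul, zpow_two, h.zsq, one_zpow])
    · exact Or.inr (by rw [zpow_add, zpow_mul, zpow_two, h.zsq, one_zpow, one_mul, zpow_one])
  · rintro (rfl | rfl)
    · exact ⟨0, zpow_zero z⟩
    · exact ⟨1, zpow_one x⟩

theorem central : z ∈ center G := by
  refine mem_center_iff.2 fun g => ?_
  rcases h.mem_core_iff.1 (H.normalCore_normal.conj_mem z h.mem_core g) with e | e
  · exact absurd (conj_eq_one_iff.1 e) (invol_ne_one h.invol)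
  · exact mul_inv_eq_iff_eq_mul.1 e

theorem center_eq : center G = H.normalCore := by
  refine le_antisymm (Subgroup.normal_le_normalCore.2 fun x hx => ?_) ?_
  · obtain ⟨d, hd, hdH⟩ := nonempty_of_setting h.setting
    refine h.setting.fix d hd hdH x ?_
    rw [← mem_center_iff.1 hx d, mul_inv_cancel_right]
    exact hdH
  · rw [h.core]; exact zpowers_le.2 h.central

/-- An element outside the core squaring into it is a member or a member times `z`. -/
theorem member_of_sq {x : G} (hx : x * x ∈ H.normalCore) (hx1 : x ∉ H.normalCore) :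
    x ∈ D ∨ x * z ∈ D := by
  set π := QuotientGroup.mk' H.normalCore with hπ
  have h2 : orderOf (π x) = 2 := invol_iff.2
    ⟨by rw [← map_mul]; exact (QuotientGroup.eq_one_iff _).2 hx,
      fun e => hx1 ((QuotientGroup.eq_one_iff x).1 e)⟩
  obtain ⟨d, hd, hdH⟩ := nonempty_of_setting h.setting
  have hd2 : orderOf (π d) = 2 := invol_iff.2
    ⟨by rw [← map_mul, invol_mul_self (h.setting.invol d hd), map_one],
      fun e => not_mem_core h.setting hd ((QuotientGroup.eq_one_iff d).1 e)⟩
  obtain ⟨c, hc⟩ := isConj_iff.1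
    (Involutions.StronglyEmbedded.isConj_involutions h.se hd2 h2)
  obtain ⟨g, rfl⟩ := QuotientGroup.mk'_surjective H.normalCore c
  rw [← map_mul, ← map_inv, ← map_mul] at hc
  have hd' := h.setting.conj d hd g
  rcases h.mem_core_iff.1 ((mem_fibre_iff h.setting hd').1 hc) with e | e
  · left
    rw [show x = g * d * g⁻¹ from
      ((eq_inv_of_mul_eq_one_left e).trans (by rfl) ▸
        (inv_inv x).symm).trans (invol_inv (h.setting.invol _ hd'))]
    exact hd'
  · right
    have e2 : x = g * d * g⁻¹ * z := by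
      rw [← e, ← mul_assoc, invol_mul_self (h.setting.invol _ hd'), one_mul]
    rw [e2, mul_assoc, h.zsq, mul_one]
    exact hd'

theorem no_root (x : G) : x * x ≠ z := by
  intro hx
  by_cases hx1 : x ∈ H.normalCore
  · rcases h.mem_core_iff.1 hx1 with rfl | rfl
    · exact invol_ne_one h.invol (by rw [← hx, one_mul])
    · exact invol_ne_one h.invol (hx.symm.trans h.zsq)
  refine invol_ne_one h.invol (hx.symm.trans ?_)
  rcases h.member_of_sq (hx ▸ h.mem_core) hx1 with hd | hd
  · exact invol_mul_self (h.setting.invol x hd)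
  · have hc : Commute z x := (mem_center_iff.1 h.central x).symm
    calc x * x = x * x * (z * z) := by rw [h.zsq, mul_one]
      _ = x * z * (x * z) := (hc.mul_mul_mul_comm x z).symm
      _ = 1 := invol_mul_self (h.setting.invol _ hd)

theorem cases {x : G} (hx : orderOf x = 2) : x ∈ D ∨ x * z ∈ D ∨ x = z := by
  by_cases hx1 : x ∈ H.normalCore
  · rcases h.mem_core_iff.1 hx1 with rfl | rfl
    · exact absurd rfl (invol_ne_one hx)
    · exact Or.inr (Or.inr rfl)
  · rcases h.member_of_sq (by rw [invol_mul_self hx]; exact one_mem _) hx1 with e | e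
    · exact Or.inl e
    · exact Or.inr (Or.inl e)

theorem trans {d e : G} (hd : d ∈ D) (hdH : d ∈ H) (he : e ∈ D) (heH : e ∈ H) :
    ∃ k ∈ H, k * d * k⁻¹ = e := by
  set π := QuotientGroup.mk' H.normalCore with hπ
  have hinv : ∀ x ∈ D, orderOf (π x) = 2 := fun x hx => invol_iff.2
    ⟨by rw [← map_mul, invol_mul_self (h.setting.invol x hx), map_one],
      fun e => not_mem_core h.setting hx ((QuotientGroup.eq_one_iff x).1 e)⟩
  obtain ⟨c, hc⟩ := isConj_iff.1
    (Involutions.StronglyEmbedded.isConj_involutions h.se (hinv d hd) (hinv e he))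
  obtain ⟨g, rfl⟩ := QuotientGroup.mk'_surjective H.normalCore c
  rw [← map_mul, ← map_inv, ← map_mul] at hc
  have hd' := h.setting.conj d hd g
  have hm := (mem_fibre_iff h.setting hd').1 hc
  have e2 : e = g * d * g⁻¹ * (g * d * g⁻¹ * e) := by
    rw [← mul_assoc, invol_mul_self (h.setting.invol _ hd'), one_mul]
  have hgd : g * d * g⁻¹ ∈ H := by
    rw [← mul_inv_cancel_right (g * d * g⁻¹) e]
    exact mul_mem (H.normalCore_le hm) (inv_mem heH)
  refine ⟨g, h.setting.fix d hd hdH g hgd, ?_⟩
  rcases h.mem_core_iff.1 hm with e' | e'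
  · rw [e'] at e2; rw [e2, mul_one]
  · rw [e'] at e2
    exact absurd (e2 ▸ he) (h.mul_not _ hd')

/-- Two members at the base point commute. -/
theorem exists_pair : ∃ d ∈ D, d ∈ H ∧ ∃ e ∈ D, e ∈ H ∧ d ≠ e ∧ Commute d e := by
  by_contra hno
  set O := Cfsg.oddCore G with hO
  haveI : O.Normal := by rw [hO]; unfold Cfsg.oddCore; infer_instance
  set π := QuotientGroup.mk' O with hπ
  -- members at the base point are isolated
  have hiso : ∀ d ∈ D, d ∈ H → ∀ g, π g * π d = π d * π g := by
    intro d hd hdH g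
    have hI : Cfsg.IsIsolatedInvolution d := by
      refine ⟨h.setting.invol d hd, fun k hk => ?_⟩
      by_contra hne
      exact hno ⟨d, hd, hdH, _, h.setting.conj d hd k,
        h.setting.centralizer_le hd hdH (mem_centralizer_singleton_iff.2 hk.eq.symm),
        fun e => hne e.symm, hk⟩
    have h1 := IsolatedInvolution.InvariantSylow.commutator_mem hI g
    have h2 : π (d * g * d⁻¹ * g⁻¹) = 1 := (QuotientGroup.eq_one_iff _).2 h1
    rw [map_mul, map_mul, map_mul, map_inv, map_inv, mul_inv_eq_one] at h2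
    exact (mul_inv_eq_iff_eq_mul.1 h2).symm
  obtain ⟨d, hd, hdH⟩ := nonempty_of_setting h.setting
  have hall : ∀ e ∈ D, π e = π d := by
    intro e he
    obtain ⟨g, hg⟩ := h.setting.meets e he
    obtain ⟨k, -, hk⟩ := h.trans hd hdH (h.setting.conj e he g) hg
    have h1 : π (k * d * k⁻¹) = π d := by
      rw [map_mul, map_mul, map_inv, hiso d hd hdH k, mul_inv_cancel_right]
    rw [hk] at h1
    have h2 : π e = (π g)⁻¹ * π (g * e * g⁻¹) * π g := by
      rw [map_mul, map_mul, map_inv]; group
    rw [h2, h1, mul_assoc, ← hiso d hd hdH g, inv_mul_cancel_left]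
  have htop : (⊤ : Subgroup G) ≤ (zpowers (π d)).comap π := by
    rw [← h.top, closure_le]
    intro e he
    show π e ∈ zpowers (π d)
    rw [hall e he]
    exact mem_zpowers _
  -- `⟨d, z⟩` is a four group meeting the odd core trivially
  have hodd : Odd (Nat.card O) := Cores.oddCore_odd
  have hpow : ∀ y : G, π y = 1 ∨ π y = π d := by
    intro y
    obtain ⟨k, hk⟩ := mem_zpowers_iff.1 (htop (mem_top y))
    have hdd : π d * π d = 1 := by rw [← map_mul, invol_mul_self (h.setting.invol d hd), map_one]
    rcases Int.even_or_odd k with ⟨j, rfl⟩ | ⟨j, rfl⟩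
    · exact Or.inl (by rw [← hk, ← two_mul, zpow_mul, zpow_two, hdd, one_zpow])
    · exact Or.inr (by rw [← hk, zpow_add, zpow_mul, zpow_two, hdd, one_zpow, one_mul, zpow_one])
  have hnot : ∀ y : G, orderOf y = 2 → π y ≠ 1 := fun y hy e =>
    (odd_card_iff_no_invol _).1 hodd y ((QuotientGroup.eq_one_iff y).1 e) hy
  have hz1 := (hpow z).resolve_left (hnot z h.invol)
  have hdz : orderOf (d * z) = 2 := by
    refine invol_iff.2 ⟨?_, fun e => ?_⟩
    · calc d * z * (d * z) = d * (z * d) * z := by group
        _ = d * (d * z) * z := by rw [(mem_center_iff.1 h.central d).symm]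
        _ = (d * d) * (z * z) := by group
        _ = 1 := by rw [invol_mul_self (h.setting.invol d hd), h.zsq, one_mul]
    · refine not_mem_core h.setting hd ?_
      rw [eq_inv_of_mul_eq_one_left e, invol_inv h.invol]
      exact h.mem_core
  exact hnot _ hdz (by rw [map_mul, hz1, ← map_mul, invol_mul_self (h.setting.invol d hd), map_one])

theorem mem_commutator : z ∈ commutator G := by
  obtain ⟨d, hd, hdH, e, he, heH, hne, hc⟩ := h.exists_pair
  let π := (Abelianization.of : G →* Abelianization G)
  have hall : ∀ x ∈ D, π x = π d := by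
    intro x hx
    obtain ⟨g, hg⟩ := h.setting.meets x hx
    obtain ⟨k, -, hk⟩ := h.trans hd hdH (h.setting.conj x hx g) hg
    have h1 : π (k * d * k⁻¹) = π d := by
      rw [map_mul, map_mul, map_inv, mul_comm (π k), mul_inv_cancel_right]
    rwa [hk, map_mul, map_mul, map_inv, mul_comm (π g), mul_inv_cancel_right] at h1
  have hd1 : π d = 1 := by
    have h1 := hall _ (h.closed d e hd hdH he heH hc hne)
    rwa [map_mul, hall e he, mul_eq_left] at h1
  have htop : commutator G = ⊤ := by
    rw [← Abelianization.ker_of, eq_top_iff, ← h.top, closure_le]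
    exact fun x hx => MonoidHom.mem_ker.2 ((hall x hx).trans hd1)
  rw [htop]; exact mem_top z

theorem false : False := by
  haveI : Fact (Nat.Prime 2) := ⟨Nat.prime_two⟩
  set N := H.normalCore with hN
  set π := QuotientGroup.mk' N with hπ
  have hsurj : Function.Surjective π := QuotientGroup.mk'_surjective N
  obtain ⟨d, hd, hdH, e, he, heH, hne, hc⟩ := h.exists_pair
  have hne1 : ∀ x ∈ D, π x ≠ 1 := fun x hx e =>
    not_mem_core h.setting hx ((QuotientGroup.eq_one_iff x).1 e)
  have hpi : π d ≠ π e := fun e' => by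
    rcases h.mem_core_iff.1 ((mem_fibre_iff h.setting hd).1 e') with e1 | e1
    · exact hne (((eq_inv_of_mul_eq_one_left e1).trans (invol_inv (h.setting.invol e he))))
    · refine h.mul_not d hd ?_
      rw [← e1, ← mul_assoc, invol_mul_self (h.setting.invol d hd), one_mul]
      exact he
  have h2 : TwoRank (G ⧸ N) := ⟨π d, π e, hne1 d hd, hne1 e he, hpi,
    by rw [← map_mul, invol_mul_self (h.setting.invol d hd), map_one],
    by rw [← map_mul, invol_mul_self (h.setting.invol e he), map_one],
    by rw [← map_mul, ← map_mul, hc.eq]⟩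
  obtain ⟨t, Q, hyp, hgood⟩ := BenderConsumers23.good BenderOne.propPartOneFinal
    BenderSuzuki.propMain h.se h2 normalCore_hbar
  obtain ⟨hQ2, L, hLn, hLodd, hQL, htL, hcase⟩ := hgood
  haveI := hLn
  -- the socle is everything
  have hinvL : ∀ x : G ⧸ N, x * x = 1 → x ∈ L := by
    intro x hx
    have h1 := Subgroup.pow_index_mem L x
    obtain ⟨j, hj⟩ := hLodd
    rwa [hj, pow_succ, pow_mul, pow_two, hx, one_pow, one_mul] at h1
  have hL : L = ⊤ := by
    have hle : closure D ≤ L.comap π := (closure_le _).2 fun x hx =>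
      hinvL (π x) (by rw [← map_mul, invol_mul_self (h.setting.invol x hx), map_one])
    rw [h.top] at hle
    refine eq_top_iff.2 fun x _ => ?_
    obtain ⟨y, rfl⟩ := hsurj x
    exact hle (mem_top y)
  have hcz : (center (G ⧸ N) : Subgroup (G ⧸ N)) = ⊥ := by
    refine eq_bot_iff.2 (le_of_le_of_eq
      (Subgroup.normal_le_normalCore.2 fun x hx => ?_) (normalCore_hbar (H := H)))
    obtain ⟨y, rfl⟩ := hsurj x
    refine mem_hbar.2 (h.setting.fix d hd hdH y (mem_hbar.1 ?_))
    rw [map_mul, map_mul, map_inv, ← mem_center_iff.1 hx (π d), mul_inv_cancel_right]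
    exact mem_map_of_mem _ hdH
  have htarget : Target (G ⧸ N) := by
    have e0 : G ⧸ N ≃* L := (MulEquiv.subgroupCongr hL).trans Subgroup.topEquiv |>.symm
    refine Target.congr e0 ?_
    rcases hcase with ⟨-, -, F, i, j, hF, ⟨n, hn2, hq⟩, hiso⟩ | ⟨-, -, hsz⟩ |
      ⟨-, -, -, F, i, j, n, hn2, -, hF, hiso⟩
    · exact .inl ⟨F, i, j, n, hn2, hF.trans hq, hiso⟩
    · exact .inr (.inl hsz)
    · exact .inr (.inr ⟨F, i, j, n, hn2, hF, hiso⟩)
  have hzc : N = center G := h.center_eq.symm
  have hcomm := h.mem_commutator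
  have hSL : ∀ S : Sylow 2 G, z ∈ ⁅(S : Subgroup G), (S : Subgroup G)⁆ := fun S =>
    Multiplier.mem_commutator_sylow S z h.central hcomm
      (Multiplier.central_pElement_mem_sylow S z h.central (k := 1)
        (by rw [pow_one, pow_two, h.zsq]))
  have e0 : G ⧸ N ≃* L := (MulEquiv.subgroupCongr hL).trans Subgroup.topEquiv |>.symm
  rcases hcase with ⟨-, -, F, i, j, hF, ⟨n, hn2, hq⟩, ⟨ε⟩⟩ | ⟨hQcard, -, hsz⟩ |
    ⟨-, -, -, F, i, j, n, hn2, -, hF, ⟨ε⟩⟩
  · -- linear: the Sylow subgroup is abelian
    obtain ⟨S⟩ := (inferInstance : Nonempty (Sylow 2 G))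
    set T := S.mapSurjective hsurj with hT
    have hexp := (CentralInt88.sylow_linear (hF.trans hq) (e0.trans ε) T).1
    have hsq : ∀ x ∈ (S : Subgroup G), x * x = 1 := by
      intro x hx
      have h1 : π x * π x = 1 := hexp _ (by
        rw [hT, Sylow.coe_mapSurjective]; exact mem_map_of_mem _ hx)
      rw [← map_mul] at h1
      exact (h.mem_core_iff.1 ((QuotientGroup.eq_one_iff _).1 h1)).resolve_right (h.no_root x)
    have hbot : ⁅(S : Subgroup G), (S : Subgroup G)⁆ ≤ ⊥ := commutator_le.2 fun a ha b hb => by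
      rw [mem_bot, commutatorElement_eq_one_iff_commute]
      have h1 := hsq _ (mul_mem ha hb)
      show a * b = b * a
      have hai := inv_eq_of_mul_eq_one_right (hsq a ha)
      have hbi := inv_eq_of_mul_eq_one_right (hsq b hb)
      have h3 := inv_eq_of_mul_eq_one_right h1
      rw [mul_inv_rev, hai, hbi] at h3
      exact h3.symm
    exact invol_ne_one h.invol (mem_bot.1 (hbot (hSL S)))
  · -- Suzuki
    obtain ⟨F, i, j, m, hm, hF, ⟨ε⟩⟩ := hsz
    have hS := hyp.setup
    have hst : stabilizer (G ⧸ N) (((1 : G ⧸ N) : (G ⧸ N) ⧸ hbar H)) = hbar H :=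
      stabilizer_quotient _
    have hQH : Q ≤ hbar H := hst ▸ hS.le
    set Dd := stabilizer (G ⧸ N) (((1 : G ⧸ N) : (G ⧸ N) ⧸ hbar H)) ⊓
      stabilizer (G ⧸ N) (t • ((1 : G ⧸ N) : (G ⧸ N) ⧸ hbar H)) with hDd
    -- `Q` is a Sylow subgroup
    obtain ⟨P, hP⟩ := Involutions.StronglyEmbedded.exists_sylow_le h.se
    have hdvd : Nat.card (hbar H) ∣ Nat.card Q * Nat.card Dd := by
      have hsup : Q ⊔ Dd = hbar H := hS.sup_eq.trans hst
      have hDH : Dd ≤ hbar H := fun x hx => hst ▸ hx.1
      haveI : (Q.subgroupOf (hbar H)).Normal :=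
        ⟨fun x hx g => hS.conj_mem g (hst.symm ▸ g.2) x hx⟩
      have h1 := Cores.card_sup_dvd_mul (Dd.subgroupOf (hbar H)) (Q.subgroupOf (hbar H))
      rw [← subgroupOf_sup hDH hQH, sup_comm, hsup, subgroupOf_self, card_top,
        Nat.card_congr (subgroupOfEquivOfLe hQH).toEquiv,
        Nat.card_congr (subgroupOfEquivOfLe hDH).toEquiv, mul_comm] at h1
      exact h1
    have hPQ : Nat.card P ∣ Nat.card Q := by
      obtain ⟨k, hk⟩ := IsPGroup.iff_card.1 P.2
      refine Nat.Coprime.dvd_of_dvd_mul_right ?_ ((card_dvd_of_le hP).trans hdvd)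
      rw [hk]
      exact Nat.Coprime.pow_left k (Nat.coprime_two_left.2 hS.odd_card)
    obtain ⟨P', hP'⟩ := hQ2.exists_le_sylow
    have hP'Q : (P' : Subgroup (G ⧸ N)) = Q := by
      refine (Subgroup.eq_of_le_of_card_ge hP' ?_).symm
      rw [← Nat.card_congr (P.equiv P').toEquiv]
      exact Nat.le_of_dvd Nat.card_pos hPQ
    obtain ⟨hcardQ, hexp4, -⟩ := CentralInt88.sylow_suzuki hm hF (e0.trans ε) P'
    rw [hP'Q] at hcardQ hexp4
    have hq : qNum (G ⧸ N) (((1 : G ⧸ N) : (G ⧸ N) ⧸ hbar H)) = 2 ^ (2 * m + 1) :=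
      Nat.pow_left_injective two_ne_zero (hQcard.symm.trans hcardQ)
    -- the preimage of `Q`
    set S₀ := Q.comap π with hS₀
    have hNS : N ≤ S₀ := fun x hx => by
      show π x ∈ Q
      rw [show π x = 1 from (QuotientGroup.eq_one_iff x).2 hx]
      exact one_mem _
    have hp₀ : IsPGroup 2 S₀ := hQ2.comap_of_ker_isPGroup π (by
      rw [hπ, QuotientGroup.ker_mk']
      exact IsPGroup.of_card (n := 1) (by rw [hN, h.core, Nat.card_zpowers, h.invol, pow_one]))
    have hidx : ¬ 2 ∣ S₀.index := by
      rw [hS₀, Subgroup.index_comap_of_surjective _ hsurj, ← hP'Q]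
      exact P'.not_dvd_index
    set S := hp₀.toSylow hidx with hSdef
    have hScoe : (S : Subgroup G) = S₀ := hp₀.toSylow_coe hidx
    have hd' : CentralData H D z S := by
      refine { setting := h.setting, closed := h.closed, invol := h.invol, central := h.central,
               le := ?_, normal := ?_, mul_not := h.mul_not,
               trans := fun a ha haH b hb hbH => h.trans ha haH hb hbH,
               cases := fun x _ hx => h.cases hx, no_root := h.no_root, exp := ?_ }
      · rw [hScoe]
        exact fun x hx => mem_hbar.1 (hQH hx)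
      · rw [hScoe]
        intro k hk s hs
        show π (k * s * k⁻¹) ∈ Q
        rw [map_mul, map_mul, map_inv]
        exact hS.conj_mem (π k) (hst.symm ▸ mem_map_of_mem _ hk) _ hs
      · rw [hScoe]
        intro x hx
        refine h.mem_core_iff.1 ((QuotientGroup.eq_one_iff _).1 ?_)
        show π (x * x * (x * x)) = 1
        rw [← hexp4 (π x) hx, ← map_pow]
        congr 1
        rw [pow_succ, pow_succ, pow_two]; group
    have hE : Nat.card hd'.E = 2 ^ (2 * m + 1) := by
      rw [hd'.card_E, ← hq]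
      refine congrArg (· + 1) (Nat.card_eq_of_bijective
        (fun x : {x : G // x ∈ D ∧ x ∈ H} =>
          (⟨π x.1, by rw [hst]; exact mem_map_of_mem _ x.2.2, hne1 _ x.2.1,
            by rw [← map_mul, invol_mul_self (h.setting.invol _ x.2.1), map_one]⟩ :
            invs (G ⧸ N) (((1 : G ⧸ N) : (G ⧸ N) ⧸ hbar H))))
        ⟨fun a b hab => Subtype.ext ?_, ?_⟩)
      · have hab' : π a.1 = π b.1 := congrArg Subtype.val hab
        rcases h.mem_core_iff.1 ((mem_fibre_iff h.setting a.2.1).1 hab') with e1 | e1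
        · exact (eq_inv_of_mul_eq_one_left e1).trans (invol_inv (h.setting.invol _ b.2.1))
        · refine absurd ?_ (h.mul_not a.1 a.2.1)
          rw [← e1, ← mul_assoc, invol_mul_self (h.setting.invol _ a.2.1), one_mul]
          exact b.2.1
      · rintro ⟨q, hqH, hq1, hqq⟩
        obtain ⟨x, rfl⟩ := hsurj q
        have hqH' : π x ∈ hbar H := hst ▸ hqH
        have hxH : x ∈ H := mem_hbar.1 hqH'
        have hx1 : x ∉ N := fun e => hq1 ((QuotientGroup.eq_one_iff x).2 e)
        rw [← map_mul] at hqq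
        rcases h.member_of_sq ((QuotientGroup.eq_one_iff _).1 hqq) hx1 with hx | hx
        · exact ⟨⟨x, hx, hxH⟩, rfl⟩
        · refine ⟨⟨x * z, hx, mul_mem hxH (H.normalCore_le h.mem_core)⟩, Subtype.ext ?_⟩
          show π (x * z) = π x
          rw [map_mul, show π z = 1 from (QuotientGroup.eq_one_iff z).2 h.mem_core, mul_one]
    have hcard : Nat.card (S : Subgroup G) = 2 * Nat.card hd'.E ^ 2 := by
      rw [hScoe, hE, ← hcardQ]
      have h1 := Subgroup.card_mul_index (N.subgroupOf S₀)
      rw [Nat.card_congr (subgroupOfEquivOfLe hNS).toEquiv,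
        show Nat.card N = 2 by rw [hN, h.core, Nat.card_zpowers, h.invol]] at h1
      rw [← h1]
      congr 1
      show N.relIndex S₀ = _
      have h2 := Subgroup.relIndex_comap (⊥ : Subgroup (G ⧸ N)) π S₀
      rw [MonoidHom.comap_bot, hπ, QuotientGroup.ker_mk', ← hπ, hS₀,
        Subgroup.map_comap_eq_self_of_surjective hsurj, Subgroup.relIndex_bot_left] at h2
      rw [hS₀]; exact h2
    refine hd'.not_mem_commutator (Or.inr ⟨hcard, ?_⟩) (hSL S)
    rw [hE]
    calc 8 = 2 ^ 3 := by norm_num
      _ ≤ 2 ^ (2 * m + 1) := Nat.pow_le_pow_right two_pos (by omega)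
  · -- unitary: the multiplier is odd
    have e1 : G ⧸ center G ≃* G ⧸ N := QuotientGroup.quotientMulEquivOfEq h.center_eq
    have hT' : Target (G ⧸ center G) := htarget.congr e1
    have hZ : center (G ⧸ center G) = ⊥ := by
      refine eq_bot_iff.2 fun x hx => ?_
      have h1 : e1 x ∈ center (G ⧸ N) := mem_center_iff.2 fun y => by
        obtain ⟨y, rfl⟩ := e1.surjective y
        rw [← map_mul, mem_center_iff.1 hx y, map_mul]
      rw [hcz, mem_bot] at h1
      exact mem_bot.2 (e1.injective (h1.trans (map_one e1).symm))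
    have h2n : 2 ^ 2 ≤ 2 ^ n := Nat.pow_le_pow_right two_pos hn2
    have hk := CentralInt88.pow_card_eq_one (CentralInt88.quotient_perfect hT' hZ)
      (Cfsg.Agent.Lib.Schur.Universe.hasSchurMultiplier_lift ((e1.trans e0).trans ε).symm
        (Cfsg.Agent.S2089.result 3 (2 ^ n) hF le_rfl (by omega) (by simp))) hcomm h.central
    rw [Nat.card_congr Multiplicative.toAdd, Nat.card_zmod] at hk
    have hdvd := orderOf_dvd_of_pow_eq_one hk
    rw [h.invol] at hdvd
    have := hdvd.trans (Nat.gcd_dvd_left 3 (2 ^ n + 1))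
    omega

end CoreInvol

end Cfsg.Agent.Lib.Crit8
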