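import Cfsg.Agent.Lib.Crit8.Bridge

/-!
# The single fixed point criterion: restriction to subgroups generated by members

Two members in a subgroup `K` have their fixed points in one `K`-orbit (otherwise the orbit of the
second is both even and odd).  So the setting passes to `<D>` and to the local groups `<D ∩ C(u)>`.
See `notes/crit_helper8.md`.
-/

set_option autoImplicit false
set_option linter.style.haveILetI false

namespace Cfsg.Agent.Lib.Crit8

open MulAction Subgroup Cfsg.Agent.Lib.Involutions.Basic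

/-- The number of points and of fixed points of an involution have the same parity. -/
theorem odd_card_of_unique_fix {α : Type*} [Finite α] (f : α → α) (hf : ∀ x, f (f x) = x) {a : α}
    (ha : f a = a) (hu : ∀ x, f x = x → x = a) : Odd (Nat.card α) := by
  classical
  haveI := Fintype.ofFinite α
  haveI : Fact (Nat.Prime 2) := ⟨Nat.prime_two⟩
  let e : Equiv.Perm α := ⟨f, f, hf, hf⟩
  have he : e ^ 2 ^ 1 = 1 := Equiv.ext fun x => by simp [pow_two, e]; exact hf x
  have h := Equiv.Perm.card_compl_support_modEq (p := 2) (n := 1) he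
  have hs : e.supportᶜ = {a} := Finset.eq_singleton_iff_unique_mem.2
    ⟨by simp [e, ha], fun x hx => hu x (by simpa [e] using hx)⟩
  rw [hs, Finset.card_singleton] at h
  rw [Nat.card_eq_fintype_card]
  exact Nat.odd_iff.2 (h.symm.trans rfl)

/-- An involutive map without fixed points lives on a set of even size. -/
theorem even_card_of_no_fix {α : Type*} [Finite α] (f : α → α) (hf : ∀ x, f (f x) = x)
    (hu : ∀ x, f x ≠ x) : Even (Nat.card α) := by
  by_contra h
  obtain ⟨a, ha⟩ := Crit59.exists_fixed_of_odd (Nat.not_even_iff_odd.1 h) f hf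
  exact hu a ha

variable {G : Type*} [Group G]

/-- Members of a subgroup fixing one point each have their points in one orbit of it. -/
theorem exists_smul_of_unique_fix {Ω : Type*} [MulAction G Ω] [Finite Ω] {K : Subgroup G} {d e : G}
    (hd : orderOf d = 2) (hdK : d ∈ K) (he : orderOf e = 2) (heK : e ∈ K) {a b : Ω}
    (ha : ∀ x, d • x = x → x = a) (hb : e • b = b) (hb' : ∀ x, e • x = x → x = b) :
    ∃ k ∈ K, k • b = a := by
  by_contra hne
  have hmove : ∀ g ∈ K, ∀ x : orbit K b, g • (x : Ω) ∈ orbit K b := by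
    intro g hg x
    obtain ⟨k, hk⟩ := x.2
    refine ⟨⟨g, hg⟩ * k, ?_⟩
    show (⟨g, hg⟩ * k : K) • b = g • (x : Ω)
    rw [mul_smul]
    exact congrArg (g • ·) hk
  let fd : orbit K b → orbit K b := fun x => ⟨d • (x : Ω), hmove d hdK x⟩
  let fe : orbit K b → orbit K b := fun x => ⟨e • (x : Ω), hmove e heK x⟩
  have h1 : Even (Nat.card (orbit K b)) := by
    refine even_card_of_no_fix fd (fun x => Subtype.ext ?_) fun x hx => hne ?_
    · show d • d • (x : Ω) = x
      rw [smul_smul, invol_mul_self hd, one_smul]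
    · obtain ⟨k, hk⟩ := x.2
      exact ⟨k, k.2, (show (k : G) • b = x from hk).trans (ha _ (congrArg Subtype.val hx))⟩
  have h2 : Odd (Nat.card (orbit K b)) := by
    refine odd_card_of_unique_fix fe (fun x => Subtype.ext ?_) (a := ⟨b, mem_orbit_self b⟩)
      (Subtype.ext hb) fun x hx => Subtype.ext (hb' _ (congrArg Subtype.val hx))
    show e • e • (x : Ω) = x
    rw [smul_smul, invol_mul_self he, one_smul]
  exact Nat.not_odd_iff_even.2 h1 h2

variable {H : Subgroup G} {D : Set G}

theorem nonempty_of_setting (hS : Crit59.Setting H D) : ∃ d, d ∈ D ∧ d ∈ H := by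
  obtain ⟨⟨d, hd⟩⟩ := (Nat.card_pos_iff.1 hS.odd.pos).1
  exact ⟨d, hd⟩

/-- A member outside `H`. -/
theorem exists_not_mem_of_setting (hS : Crit59.Setting H D) : ∃ d, d ∈ D ∧ d ∉ H := by
  obtain ⟨d, hd, hdH⟩ := nonempty_of_setting hS
  obtain ⟨g, -, hg⟩ := SetLike.exists_of_lt (lt_top_iff_ne_top.2 hS.ne_top)
  exact ⟨g * d * g⁻¹, hS.conj d hd g, fun h => hg (hS.fix d hd hdH g h)⟩

/-- The part of a set of members inside a subgroup. -/
def part (K : Subgroup G) (E : Set G) : Set K := {x | (x : G) ∈ E}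

theorem map_closure_part {K : Subgroup G} {E : Set G} (hEK : E ⊆ K) :
    (closure (part K E)).map K.subtype = closure E := by
  rw [MonoidHom.map_closure]
  congr 1
  ext x
  exact ⟨by rintro ⟨y, hy, rfl⟩; exact hy, fun hx => ⟨⟨x, hEK hx⟩, hx, rfl⟩⟩

/-- The setting inside a subgroup. -/
theorem setting_restrict [Finite G] (hS : Crit59.Setting H D) {K : Subgroup G} {E : Set G}
    (hED : E ⊆ D) (hEK : E ⊆ K) (hconj : ∀ x ∈ E, ∀ g ∈ K, g * x * g⁻¹ ∈ E)
    (hodd : Odd (Nat.card {d : G // d ∈ E ∧ d ∈ H})) (hout : ∃ e ∈ E, e ∉ H) :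
    Crit59.Setting (H.subgroupOf K) (part K E) := by
  refine ⟨fun htop => ?_, fun d hd => ?_, fun d hd g => hconj _ hd g g.2, fun d hd => ?_,
    fun d hd hdH g hg => hS.fix _ (hED hd) hdH g hg, ?_⟩
  · obtain ⟨e, he, heH⟩ := hout
    have : (⟨e, hEK he⟩ : K) ∈ H.subgroupOf K := htop ▸ mem_top _
    exact heH this
  · rw [← Subgroup.orderOf_coe]
    exact hS.invol _ (hED hd)
  · obtain ⟨⟨e, he, heH⟩⟩ := (Nat.card_pos_iff.1 hodd.pos).1
    have h0 : ∀ x : G, x • ((1 : G) : G ⧸ H) = ((1 : G) : G ⧸ H) ↔ x ∈ H := fun x => by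
      rw [smul_mk_eq_iff]; simp
    obtain ⟨z, hz, hz'⟩ := one_of_setting hS (hED hd)
    obtain ⟨z', -, hz''⟩ := one_of_setting hS (hED he)
    obtain ⟨k, hk, hkz⟩ := exists_smul_of_unique_fix (K := K) (hS.invol e (hED he)) (hEK he)
      (hS.invol _ (hED hd)) d.2 (a := ((1 : G) : G ⧸ H))
      (fun x hx => (hz'' x hx).trans (hz'' _ ((h0 e).2 heH)).symm) hz hz'
    refine ⟨⟨k, hk⟩, ?_⟩
    show k * (d : G) * k⁻¹ ∈ H
    refine (h0 _).1 ?_
    rw [mul_smul, mul_smul, ← hkz, inv_smul_smul]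
    exact congrArg (k • ·) hz
  · refine (Nat.card_congr ?_).symm ▸ hodd
    exact ⟨fun x => ⟨x.1.1, x.2⟩, fun x => ⟨⟨x.1, hEK x.2.1⟩, x.2⟩, fun x => rfl, fun x => rfl⟩

theorem prodHyp_restrict (hP : Crit59.ProdHyp H D) {K : Subgroup G} {E : Set G} (hED : E ⊆ D) :
    Crit59.ProdHyp (H.subgroupOf K) (part K E) := by
  intro d e hd hdH he heH hc hne g hg
  refine hP d e (hED hd) hdH (hED he) heH (congrArg Subtype.val hc.eq)
    (fun h => hne (Subtype.ext h)) ?_
  exact mem_centralizer_singleton_iff.2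
    (congrArg Subtype.val (mem_centralizer_singleton_iff.1 hg))

/-- The setting of the group generated by the members. -/
theorem setting_closure [Finite G] (hS : Crit59.Setting H D) :
    Crit59.Setting (H.subgroupOf (closure D)) (part (closure D) D) :=
  setting_restrict hS subset_rfl subset_closure (fun x hx g _ => hS.conj x hx g) hS.odd
    (by obtain ⟨d, hd, h⟩ := exists_not_mem_of_setting hS; exact ⟨d, hd, h⟩)

/-- An involution centralises an odd number of the members at a fixed point. -/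
theorem odd_commute [Finite G] (hS : Crit59.Setting H D) {u : G} (hu : orderOf u = 2)
    (huH : u ∈ H) : Odd (Nat.card {d : G // (d ∈ D ∧ Commute d u) ∧ d ∈ H}) := by
  classical
  set α := {d : G // d ∈ D ∧ d ∈ H}
  haveI := Fintype.ofFinite α
  haveI : Fact (Nat.Prime 2) := ⟨Nat.prime_two⟩
  let f : α → α := fun d => ⟨u * d.1 * u⁻¹, hS.conj _ d.2.1 u,
    mul_mem (mul_mem huH d.2.2) (inv_mem huH)⟩
  have hf : ∀ x, f (f x) = x := fun x => Subtype.ext (by
    show u * (u * x.1 * u⁻¹) * u⁻¹ = x.1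
    rw [Crit59.conj_conj, invol_mul_self hu]; simp)
  let e : Equiv.Perm α := ⟨f, f, hf, hf⟩
  have he : e ^ 2 ^ 1 = 1 := Equiv.ext fun x => by simp [pow_two, e]; exact hf x
  have h := Equiv.Perm.card_compl_support_modEq (p := 2) (n := 1) he
  have h2 : Fintype.card α % 2 = 1 := by
    rw [← Nat.card_eq_fintype_card]; exact Nat.odd_iff.1 hS.odd
  have h3 : Nat.card {d : G // (d ∈ D ∧ Commute d u) ∧ d ∈ H} = e.supportᶜ.card := by
    rw [← Fintype.card_coe, ← Nat.card_eq_fintype_card]
    refine Nat.card_congr ⟨fun d => ⟨⟨d.1, d.2.1.1, d.2.2⟩, ?_⟩,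
      fun x => ⟨x.1.1, ⟨x.1.2.1, ?_⟩, x.1.2.2⟩, fun _ => rfl, fun _ => rfl⟩
    · simp only [Finset.mem_compl, Equiv.Perm.mem_support, not_not]
      exact Subtype.ext (mul_inv_eq_iff_eq_mul.2 d.2.1.2.eq.symm)
    · have h1 : e x.1 = x.1 := not_not.1 fun hne =>
        Finset.mem_compl.1 x.2 (Equiv.Perm.mem_support.2 hne)
      exact (mul_inv_eq_iff_eq_mul.1
        (show u * x.1.1 * u⁻¹ = x.1.1 from congrArg Subtype.val h1)).symm
  rw [h3]
  exact Nat.odd_iff.2 (Eq.trans h h2)

/-- A subgroup of `loc` form: the setting inside the group localised at a bad involution. -/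
theorem setting_loc [Finite G] (hS : Crit59.Setting H D) {u : G} (hu : orderOf u = 2)
    (huH : u ∈ H) (hbad : ∃ g : G, g * u * g⁻¹ ∈ H ∧ g ∉ H) :
    Crit59.Setting (H.subgroupOf (loc D u))
      (part (loc D u) {x | x ∈ D ∧ Commute x u}) := by
  refine setting_restrict hS (fun x hx => hx.1) subset_closure (fun x hx g hg => ?_)
    (odd_commute hS hu huH) ?_
  · refine ⟨hS.conj x hx.1 g, ?_⟩
    have hgu : Commute g u := by
      induction hg using Subgroup.closure_induction with
      | mem y hy => exact hy.2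
      | one => exact Commute.one_left u
      | mul a b _ _ ha hb => exact ha.mul_left hb
      | inv a _ ha => exact ha.inv_left
    exact (hgu.mul_left hx.2).mul_left hgu.inv_left
  · obtain ⟨g, hgu, hg⟩ := hbad
    obtain ⟨⟨d, ⟨hd, hdu⟩, hdH⟩⟩ := (Nat.card_pos_iff.1
      (odd_commute hS ((orderOf_conj_eq g u).trans hu) hgu).pos).1
    refine ⟨g⁻¹ * d * g, ⟨by simpa using hS.conj d hd g⁻¹, ?_⟩, fun h => ?_⟩
    · show g⁻¹ * d * g * u = u * (g⁻¹ * d * g)
      calc g⁻¹ * d * g * u = g⁻¹ * (d * (g * u * g⁻¹)) * g := by group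
        _ = g⁻¹ * (g * u * g⁻¹ * d) * g := by rw [hdu.eq]
        _ = _ := by group
    · exact hg (inv_mem_iff.1 (hS.fix d hd hdH g⁻¹ (by simpa using h)))

end Cfsg.Agent.Lib.Crit8
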